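import Groth.Agent.Models.H67.H0Fibre
import Groth.Agent.S2431

/-!
# Functions on the closed fibre of a normal proper scheme with a section over a DVR

* `dvd_of_not_isUnit`: the slope argument of `H67.FibreField` with a discrete valuation ring `V` and a local
  homomorphism `O_{X,y₀} → V` sending `π` to a uniformizer.
* `exists_const`: on a normal proper `X` over a DVR with connected closed fibre and a section, a family of
  functions compatible modulo the uniformizer is constant modulo the uniformizer.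
* `exists_const_pow`: the same modulo a power of the uniformizer.
-/

set_option autoImplicit false
universe u

open CategoryTheory CategoryTheory.Limits AlgebraicGeometry Opposite TopologicalSpace

namespace K380.Slope

open Groth.Agent Groth.Agent.Dix.NormalSec Groth.Agent.Fdesc.LocGen Groth.Agent.Models.H67.NormFam
open Groth.Agent.Models.H67.NormRoot Groth.Agent.Models.H67.ValAlg IsDiscreteValuationRing
open Groth.Agent.Models.H67.FibreField Groth.Agent.Models.H67

section Glue

variable {X : Scheme.{u}} [IsIntegral X] [IsNoetherian X] {π : Γ(X, ⊤)}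

/-- The slope argument with a discrete valuation ring as test object. -/
theorem dvd_of_not_isUnit (hN : ∀ x : X, IsIntegrallyClosed (X.presheaf.stalk x))
    (hπ : π ≠ 0) {Z : Scheme.{u}} [IsReduced Z] (j : Z ⟶ X) (hj : ap j ⊤ π = 0)
    (hcov : ∀ y : X, ¬ IsUnit (pt π y) → y ∈ Set.range j)
    (hfield : ∀ β : Γ(Z, ⊤), β ≠ 0 → IsUnit β)
    {V : Type*} [CommRing V] [IsDomain V] [IsDiscreteValuationRing V]
    (y₀ : X) (φ : X.presheaf.stalk y₀ →+* V) [IsLocalHom φ] (hφ : Irreducible (φ (pt π y₀)))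
    (F : Fam π) (U₀ : X.affineOpens) (x : X) (hxU : x ∈ U₀.1) (hx : ¬ IsUnit (pt π x))
    (hu : ¬ IsUnit (germ U₀.1 x hxU (F.a U₀))) (U : X.affineOpens) : ores le_top π ∣ F.a U := by
  by_contra hnd
  obtain ⟨p, q, b, y₁, hpq, hy₁, hb, hu₁⟩ := F.exists_root hN hπ ⟨U, hnd⟩
  obtain ⟨β, hβ⟩ := exists_glue hN hπ F hpq hb j hj
  have hβ0 : β ≠ 0 := by
    rintro rfl
    obtain ⟨z, rfl⟩ := hcov y₁ hy₁.1
    obtain ⟨U, hU, hxU, -⟩ := exists_isAffineOpen_mem_and_subset (X := X) (x := j z) (U := ⊤) trivial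
    have h1 := (isUnit_germ_ap_iff j z hxU (b ⟨U, hU⟩)).2 (hu₁ ⟨U, hU⟩ hxU)
    rw [← hβ ⟨U, hU⟩, map_zero, map_zero] at h1
    exact not_isUnit_zero h1
  have hβu := hfield β hβ0
  have hbu : ∀ (y : X) (U : X.affineOpens) (hU : y ∈ U.1), ¬ IsUnit (pt π y) →
      IsUnit (germ U.1 y hU (b U)) := by
    intro y U hU hy
    obtain ⟨z, rfl⟩ := hcov y hy
    rw [← isUnit_germ_ap_iff j z hU, ← hβ U]
    exact (hβu.map _).map _
  -- the test point gives `p = 0`
  have hp : p = 0 := by
    obtain ⟨W, hW, hyW, -⟩ := exists_isAffineOpen_mem_and_subset (X := X) (x := y₀) (U := ⊤) trivial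
    have h1 := congr(germ W y₀ hyW $(hb ⟨W, hW⟩))
    rw [map_pow, map_mul, map_pow, germ_ores_top] at h1
    replace h1 := congr(φ $h1)
    rw [map_pow, map_mul, map_pow] at h1
    have hnu : ¬ IsUnit (pt π y₀) := fun h => hφ.not_isUnit (h.map φ)
    exact eq_zero_of_unit (addVal_uniformizer hφ) hpq h1 ((hbu y₀ ⟨W, hW⟩ hyW hnu).map φ)
  subst hp
  have h1 := hbu x U₀ hxU hx
  have h2 := congr(germ U₀.1 x hxU $(hb U₀))
  rw [pow_zero, one_mul, map_pow] at h2
  rw [← h2] at h1
  exact hu ((isUnit_pow_iff (by omega : q ≠ 0)).1 h1)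

end Glue

section Red

variable {R : Type u} [CommRing R] [IsDomain R] [IsDiscreteValuationRing R] {X : Scheme.{u}}

/-- The nonzero global functions on the reduced closed fibre of a proper scheme with connected closed fibre
are units. -/
theorem isField_redFibre (p : X ⟶ Spec (CommRingCat.of R)) [IsProper p]
    (hc : _root_.IsConnected (Models.specialFibreSet R (Over.mk p))) :
    IsField Γ((Models.redFibreIdeal R (Over.mk p)).subscheme, ⊤) := by
  have hred : IsReduced (Models.redFibreIdeal R (Over.mk p)).subscheme :=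
    Ega1.ReducedSub.isReduced_subscheme_vanishingIdeal _
  let j := (Models.redFibreIdeal R (Over.mk p)).subschemeι
  have hrange : Set.range j = Models.specialFibreSet R (Over.mk p) := by
    have h1 := Scheme.IdealSheafData.range_subschemeι (Models.redFibreIdeal R (Over.mk p))
    rw [h1]
    exact Scheme.IdealSheafData.coe_support_vanishingIdeal _
  have hconn : ConnectedSpace (Models.redFibreIdeal R (Over.mk p)).subscheme := by
    have h1 := hc
    rw [← hrange] at h1
    have h2 : ConnectedSpace (Set.range j) := isConnected_iff_connectedSpace.1 h1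
    exact (j.isEmbedding.toHomeomorph.symm.surjective).connectedSpace
      j.isEmbedding.toHomeomorph.symm.continuous
  let q : (Models.redFibreIdeal R (Over.mk p)).subscheme ⟶ Spec (CommRingCat.of R) := j ≫ p
  have hq : IsProper q := inferInstance
  let φ : R →+* Γ((Models.redFibreIdeal R (Over.mk p)).subscheme, ⊤) := CurvesC.QuotZero.glob q
  have hφint : φ.IsIntegral := by
    have h1 : ((Scheme.ΓSpecIso (CommRingCat.of R)).inv ≫ q.appTop).hom.IsIntegral := by
      apply RingHom.isIntegral_respectsIso.2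
        (e := (Scheme.ΓSpecIso (CommRingCat.of R)).symm.commRingCatIsoToRingEquiv)
      exact isIntegral_appTop_of_universallyClosed q
    exact h1
  -- `φ` kills the maximal ideal
  have hφ : ∀ r ∈ IsLocalRing.maximalIdeal R, φ r = 0 := by
    intro r hr
    rw [← basicOpen_eq_bot_iff]
    ext z
    simp only [SetLike.mem_coe, Opens.coe_bot, Set.mem_empty_iff_false, iff_false]
    intro hz
    have h1 : IsUnit (germ ⊤ z trivial (φ r)) := (Scheme.mem_basicOpen_top _ _ _).1 hz
    have h2 : germ ⊤ z trivial (φ r) =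
        (j.stalkMap z).hom (Models.stalkHom R (Over.mk p) (j z) r) := by
      change germ ⊤ z trivial (CurvesC.QuotZero.glob (j ≫ p) r) = _
      rw [CurvesC.QuotZero.glob_comp]
      exact germ_ap j (U := ⊤) z trivial (CurvesC.QuotZero.glob p r)
    rw [h2] at h1
    have h3 : IsUnit (Models.stalkHom R (Over.mk p) (j z) r) := isUnit_of_map_unit _ _ h1
    obtain ⟨ϖ, hϖ⟩ := IsDiscreteValuationRing.exists_irreducible R
    have h4 : j z ∈ Models.specialFibreSet R (Over.mk p) := by rw [← hrange]; exact ⟨z, rfl⟩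
    have h5 : Ideal.map (Models.stalkHom R (Over.mk p) (j z)) (IsLocalRing.maximalIdeal R) ≤
        IsLocalRing.maximalIdeal _ := by
      have h6 := (Models.H36.FibreFact.mem_support_specialFibreIdeal_iff (X := Over.mk p) (j z)).2 h4
      rw [← Models.H36.FibreFact.stalkIdeal_specialFibreIdeal]
      exact (Groth.Agent.Divis.CartierBasic.mem_support_iff_stalkIdeal_le _ _).1 h6
    exact h5 (Ideal.mem_map_of_mem _ hr) h3
  let ψ : IsLocalRing.ResidueField R →+* Γ((Models.redFibreIdeal R (Over.mk p)).subscheme, ⊤) :=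
    Ideal.Quotient.lift _ φ hφ
  let : Algebra (IsLocalRing.ResidueField R) Γ((Models.redFibreIdeal R (Over.mk p)).subscheme, ⊤) :=
    ψ.toAlgebra
  have hψint : ψ.IsIntegral := by
    have h1 : (ψ.comp (IsLocalRing.residue R)) = φ := by ext r; rfl
    have h2 : (ψ.comp (IsLocalRing.residue R)).IsIntegral := by rw [h1]; exact hφint
    exact h2.tower_top
  have : Nonempty (⊤ : (Models.redFibreIdeal R (Over.mk p)).subscheme.Opens) :=
    (inferInstance : Nonempty (Models.redFibreIdeal R (Over.mk p)).subscheme).map fun x => ⟨x, trivial⟩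
  exact CurvesC.ReducedConnField.isField_of_isIntegral_of_isReduced
    (k := IsLocalRing.ResidueField R) ⟨hψint⟩
    (fun e he => CurvesC.ReducedConnField.eq_zero_or_one_of_idem e he)

/-- The closed fibre of a proper flat scheme over a DVR with `H^0 = K` for the generic fibre is connected. -/
theorem isConnected_specialFibreSet {K : Type u} [Field K] [Algebra R K] [IsFractionRing R K]
    {C : Scheme.{u}} {f : C ⟶ Spec (CommRingCat.of K)} {g : C ⟶ X}
    {p : X ⟶ Spec (CommRingCat.of R)} [IsProper p] [Flat p]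
    (hg : IsPullback g f p (Spec.map (CommRingCat.ofHom (algebraMap R K)))) (hH0 : IsIso f.appTop) :
    _root_.IsConnected (Models.specialFibreSet R (Over.mk p)) := by
  have h := (Groth.Agent.S2431.result p
    (fun U => Models.DVRGeneric.isIso_app hg hH0 U)).1 (IsLocalRing.closedPoint R : PrimeSpectrum R)
  let e1 := p.fiberHomeo (IsLocalRing.closedPoint R : PrimeSpectrum R)
  have h2 : ConnectedSpace (p ⁻¹' {(IsLocalRing.closedPoint R : PrimeSpectrum R)}) :=
    e1.surjective.connectedSpace e1.continuous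
  exact isConnected_iff_connectedSpace.2 h2

lemma range_redFibre (p : X ⟶ Spec (CommRingCat.of R)) :
    Set.range (Models.redFibreIdeal R (Over.mk p)).subschemeι = Models.specialFibreSet R (Over.mk p) := by
  have h1 := Scheme.IdealSheafData.range_subschemeι (Models.redFibreIdeal R (Over.mk p))
  rw [h1]
  exact Scheme.IdealSheafData.coe_support_vanishingIdeal _

/-- Constants as global functions. -/
noncomputable abbrev gb (p : X ⟶ Spec (CommRingCat.of R)) : R →+* Γ(X, ⊤) := CurvesC.QuotZero.glob p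

lemma mem_specialFibreSet_iff (p : X ⟶ Spec (CommRingCat.of R)) {ϖ : R} (hϖ : Irreducible ϖ) (y : X) :
    y ∈ Models.specialFibreSet R (Over.mk p) ↔ ¬ IsUnit (pt (gb p ϖ) y) := by
  rw [← Models.H36.FibreFact.mem_support_specialFibreIdeal_iff,
    Groth.Agent.Divis.CartierBasic.mem_support_iff_stalkIdeal_le,
    Models.H36.FibreFact.stalkIdeal_specialFibreIdeal, Section.map_maximalIdeal_eq hϖ,
    Ideal.span_singleton_le_iff_mem, IsLocalRing.mem_maximalIdeal, mem_nonunits_iff]
  rfl

lemma gl_ne_zero (p : X ⟶ Spec (CommRingCat.of R)) [Flat p] [Nonempty X] {ϖ : R} (hϖ : ϖ ≠ 0) :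
    gb p ϖ ≠ 0 := by
  intro h0
  obtain ⟨y⟩ := ‹Nonempty X›
  have hflat' : Flat (Over.mk p).hom := ‹Flat p›
  have h1 := Models.H36.FibreFact.stalkHom_mem_nonZeroDivisors (X := Over.mk p) hϖ y
  apply nonZeroDivisors.ne_zero h1
  have h2 : Models.stalkHom R (Over.mk p) y ϖ = germ ⊤ y trivial (gb p ϖ) := rfl
  rw [h2, h0]
  exact map_zero _

/-- A family compatible modulo the uniformizer is constant modulo the uniformizer. -/
theorem exists_const (p : X ⟶ Spec (CommRingCat.of R)) [IsProper p] [Flat p] [IsIntegral X]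
    (hn : Pi1.IsNormalScheme X) (hc : _root_.IsConnected (Models.specialFibreSet R (Over.mk p)))
    (σ : Spec (CommRingCat.of R) ⟶ X) (hσ : σ ≫ p = 𝟙 _) {ϖ : R} (hϖ : Irreducible ϖ)
    (F : Fam (gb p ϖ)) :
    ∃ r : R, ∀ U : X.affineOpens, (ores le_top (gb p ϖ) : Γ(X, U.1)) ∣
      F.a U - ores le_top (gb p r) := by
  have hLN : IsLocallyNoetherian X := LocallyOfFiniteType.isLocallyNoetherian p
  have hcomp : CompactSpace X := QuasiCompact.compactSpace_of_compactSpace p
  have hNoeth : IsNoetherian X := { }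
  have hN : ∀ x : X, IsIntegrallyClosed (X.presheaf.stalk x) := fun x => (hn x).2
  have hπ := gl_ne_zero p hϖ.ne_zero
  -- the point on the section
  let σ' : Spec (CommRingCat.of R) ⟶ (Over.mk p).left := σ
  have hσ' : σ' ≫ (Over.mk p).hom = 𝟙 _ := hσ
  let x : X := σ (IsLocalRing.closedPoint R)
  obtain ⟨U₀, hU₀, hxU, -⟩ := exists_isAffineOpen_mem_and_subset (X := X) (x := x) (U := ⊤) trivial
  obtain ⟨r, hr⟩ := Section.residue_surjective (X := Over.mk p) σ' hσ'
    ((X.residue x).hom (germ U₀ x hxU (F.a ⟨U₀, hU₀⟩)))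
  have hr' : ¬ IsUnit (germ U₀ x hxU (F.a ⟨U₀, hU₀⟩ - ores le_top (gb p r))) := by
    rw [map_sub, germ_ores_top]
    have h6 : (X.residue x).hom (germ U₀ x hxU (F.a ⟨U₀, hU₀⟩)) =
      (X.residue x).hom (Models.stalkHom R (Over.mk p) x r) := hr.symm
    have h7 : germ U₀ x hxU (F.a ⟨U₀, hU₀⟩) - pt (gb p r) x ∈
      IsLocalRing.maximalIdeal _ := Ideal.Quotient.eq.1 h6
    exact h7
  refine ⟨r, ?_⟩
  let F' : Fam (gb p ϖ) :=
    ⟨fun U => F.a U - ores le_top (gb p r), fun U V h => by
      have h1 := F.compat U V h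
      rw [map_sub, ores_ores]
      convert h1 using 1
      ring⟩
  let j := (Models.redFibreIdeal R (Over.mk p)).subschemeι
  have hred : IsReduced (Models.redFibreIdeal R (Over.mk p)).subscheme :=
    Ega1.ReducedSub.isReduced_subscheme_vanishingIdeal _
  have hj : ap j ⊤ (gb p ϖ) = 0 := by
    change (show Γ((Models.redFibreIdeal R (Over.mk p)).subscheme, ⊤) from
      ap j ⊤ (gb p ϖ)) = 0
    rw [← basicOpen_eq_bot_iff]
    ext z
    simp only [SetLike.mem_coe, Opens.coe_bot, Set.mem_empty_iff_false, iff_false]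
    intro hz
    have h1 : IsUnit (germ ⊤ z trivial (show Γ((Models.redFibreIdeal R (Over.mk p)).subscheme, ⊤) from
        ap j ⊤ (gb p ϖ))) :=
      (Scheme.mem_basicOpen_top _ _ _).1 hz
    have h2 := (isUnit_germ_ap_iff j (U := ⊤) z trivial (gb p ϖ)).1 h1
    have h3 : j z ∈ Models.specialFibreSet R (Over.mk p) := by rw [← range_redFibre]; exact ⟨z, rfl⟩
    exact (mem_specialFibreSet_iff p hϖ (j z)).1 h3 h2
  let ψ : X.presheaf.stalk x →+* R := Section.psi (X := Over.mk p) σ'
  have hψl : IsLocalHom ψ := inferInstanceAs (IsLocalHom (Section.psi (X := Over.mk p) σ'))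
  have hψ : ψ (pt (gb p ϖ) x) = ϖ :=
    congr($(Section.psi_comp_stalkHom (X := Over.mk p) σ' hσ') ϖ)
  have hx : ¬ IsUnit (pt (gb p ϖ) x) := by
    rw [← mem_specialFibreSet_iff p hϖ]
    exact Section.point_mem_specialFibreSet (X := Over.mk p) σ' hσ'
  exact dvd_of_not_isUnit hN hπ j hj
    (fun y hy => by rw [range_redFibre]; exact (mem_specialFibreSet_iff p hϖ y).2 hy)
    (fun β hβ => by
      obtain ⟨c, hc⟩ := (isField_redFibre p hc).mul_inv_cancel hβ
      exact IsUnit.of_mul_eq_one _ hc) x ψ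
    (by rw [hψ]; exact hϖ) F' ⟨U₀, hU₀⟩ x hxU hx hr'

/-- A family compatible modulo a power of the uniformizer is constant modulo that power. -/
theorem exists_const_pow (p : X ⟶ Spec (CommRingCat.of R)) [IsProper p] [Flat p] [IsIntegral X]
    (hn : Pi1.IsNormalScheme X) (hc : _root_.IsConnected (Models.specialFibreSet R (Over.mk p)))
    (σ : Spec (CommRingCat.of R) ⟶ X) (hσ : σ ≫ p = 𝟙 _) {ϖ : R} (hϖ : Irreducible ϖ) (e : ℕ)
    (F : Fam (gb p (ϖ ^ e))) :
    ∃ r : R, ∀ U : X.affineOpens, (ores le_top (gb p (ϖ ^ e)) : Γ(X, U.1)) ∣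
      F.a U - ores le_top (gb p r) := by
  induction e with
  | zero =>
    refine ⟨0, fun U => ?_⟩
    have h1 : (ores le_top (gb p (ϖ ^ 0)) : Γ(X, U.1)) = 1 := by rw [pow_zero, map_one, map_one]
    exact h1 ▸ one_dvd _
  | succ e ih =>
    have hπ := gl_ne_zero p hϖ.ne_zero
    have hmul : gb p (ϖ ^ (e + 1)) =
        gb p (ϖ ^ e) * gb p ϖ := by
      rw [pow_succ, map_mul]
    let F₁ : Fam (gb p ϖ) := ⟨F.a, fun U V h => by
      refine dvd_trans ?_ (F.compat U V h)
      rw [hmul, map_mul]
      exact dvd_mul_left _ _⟩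
    obtain ⟨r, hr⟩ := exists_const p hn hc σ hσ hϖ F₁
    choose b hb using hr
    let F₂ : Fam (gb p (ϖ ^ e)) := ⟨b, fun U V h => by
      obtain ⟨c, hc'⟩ := F.compat U V h
      by_cases hne : Nonempty V.1
      · obtain ⟨⟨z, hz⟩⟩ := hne
        refine ⟨c, ?_⟩
        have h1 := congr(ores h $(hb U))
        have h2 := hb V
        rw [map_mul, map_sub, ores_ores, ores_ores] at h1
        have h3 : (ores le_top (gb p ϖ) : Γ(X, V.1)) * (ores h (b U) - b V) =
            ores le_top (gb p ϖ) *
              (ores le_top (gb p (ϖ ^ e)) * c) := by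
          rw [mul_sub, ← h1, ← h2]
          change ores h (F.a U) - _ - (F.a V - _) = _
          rw [sub_sub_sub_cancel_right, hc', hmul, map_mul]
          ring
        have : Nonempty V.1 := ⟨⟨z, hz⟩⟩
        refine mul_left_cancel₀ ?_ h3
        intro h0
        apply pt_ne_zero hπ z
        rw [← germ_ores_top _ z hz, h0, map_zero]
      · have hV : V.1 = ⊥ := by
          ext x
          exact ⟨fun hx => (hne ⟨⟨x, hx⟩⟩).elim, fun hx => hx.elim⟩
        have : Subsingleton Γ(X, V.1) := by rw [hV]; infer_instance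
        exact ⟨0, Subsingleton.elim _ _⟩⟩
    obtain ⟨s, hs⟩ := ih F₂
    refine ⟨r + ϖ * s, fun U => ?_⟩
    obtain ⟨d, hd⟩ := hs U
    refine ⟨d, ?_⟩
    have h1 := hb U
    change F.a U - _ = _ at h1
    change b U - _ = _ at hd
    rw [map_add, map_mul, map_add, map_mul, ← sub_sub, h1, hmul, map_mul, ← mul_sub, hd]
    ring

end Red

end K380.Slope
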