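import Groth.Prelude.Def_Pi1
import Groth.Prelude.Def_ClSub2
import Groth.Agent.S9346
import Groth.Agent.S4366
import Groth.Agent.Ega3B.NormalBirational
import Groth.Agent.Flat2C.ContrLocal

/-!
# Proper birational morphisms to integral normal schemes: direct image of the structure sheaf and localization
at a point of the base
-/

set_option autoImplicit false
universe u

open CategoryTheory CategoryTheory.Limits AlgebraicGeometry TopologicalSpace

namespace K380.Bir

open Groth.Agent

section Gen

variable {X Y : Scheme.{u}} [IsIntegral X] [IsIntegral Y] (f : X ⟶ Y)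

omit [IsIntegral X] in
theorem isDominant (U : Y.Opens) (hU : (U : Set Y).Nonempty) (h : IsIso (f ∣_ U)) : IsDominant f := by
  constructor
  have h1 : (U : Set Y) ⊆ Set.range f := by
    intro y hy
    obtain ⟨z, hz⟩ := (ConcreteCategory.bijective_of_isIso (f ∣_ U).base).2 ⟨y, hy⟩
    refine ⟨z.1, ?_⟩
    have h2 := congrArg Subtype.val hz
    exact (morphismRestrict_base_coe f U z).symm.trans h2
  have h2 : Dense (U : Set Y) := U.isOpen.dense hU
  exact h2.mono h1

theorem gen (U : Y.Opens) (hU : (U : Set Y).Nonempty) (h : IsIso (f ∣_ U)) :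
    f (genericPoint X) = genericPoint Y :=
  ((S9346.result f).out 0 1).1 (isDominant f U hU h)

theorem bir (U : Y.Opens) (hU : (U : Set Y).Nonempty) (h : IsIso (f ∣_ U)) :
    IsIso (f.stalkMap (genericPoint X)) := by
  have hg := gen f U hU h
  have hgU : genericPoint Y ∈ U := ((genericPoint_spec Y).mem_open_set_iff U.isOpen).mpr (by simpa using hU)
  have hx : genericPoint X ∈ f ⁻¹ᵁ U := by
    change f (genericPoint X) ∈ U
    rw [hg]; exact hgU
  let z : (f ⁻¹ᵁ U).toScheme := ⟨genericPoint X, hx⟩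
  have h2 : IsIso ((f ∣_ U).stalkMap z) := inferInstance
  exact ((MorphismProperty.isomorphisms CommRingCat).arrow_mk_iso_iff
      (morphismRestrictStalkMap f U z)).mp h2

end Gen

section App

variable {X Y : Scheme.{u}} [IsIntegral X] [IsIntegral Y] (f : X ⟶ Y)

omit [IsIntegral X] [IsIntegral Y] in
theorem isIntegral_app_of_appLE (U W : Y.Opens) (V : X.Opens) (e : V ≤ f ⁻¹ᵁ W) (hW : W = U) (hV : V = f ⁻¹ᵁ U)
    (h : (f.appLE W V e).hom.IsIntegral) : (f.app U).hom.IsIntegral := by
  subst hW hV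
  rwa [Scheme.Hom.appLE_eq_app] at h

theorem app_bijective (hY : ∀ y : Y, IsIntegrallyClosed (Y.presheaf.stalk y)) [IsProper f]
    (hgen : f (genericPoint X) = genericPoint Y) (hbir : IsIso (f.stalkMap (genericPoint X)))
    (U : Y.Opens) (hU : IsAffineOpen U) : Function.Bijective (f.app U) := by
  by_cases hne : Nonempty U
  · refine ⟨Ega3B.NormalBirational.app_injective f hgen hbir U, ?_⟩
    intro x
    refine Ega3B.NormalBirational.exists_app_eq_of_isIntegral hY f hgen hbir U hU x ?_
    have hA : IsAffine (U : Scheme.{u}) := hU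
    have h1 := isIntegral_appTop_of_universallyClosed (f ∣_ U)
    have h2 : (f.app U).hom.IsIntegral := by
      have h4 : ((f ∣_ U).app (⊤ : (U : Scheme.{u}).Opens)).hom.IsIntegral := h1
      rw [morphismRestrict_app'] at h4
      refine isIntegral_app_of_appLE f U _ _ _ ?_ ?_ h4
      · exact U.ι_image_top
      · exact (f ⁻¹ᵁ U).ι_image_top
    exact h2 x
  · have hU' : U = ⊥ := by
      rw [eq_bot_iff]
      intro x hx
      exact (hne ⟨⟨x, hx⟩⟩).elim
    have h1 : Subsingleton Γ(Y, U) := by rw [hU']; infer_instance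
    have h2 : Subsingleton Γ(X, f ⁻¹ᵁ U) := by
      rw [hU']
      exact inferInstanceAs (Subsingleton Γ(X, ⊥))
    exact ⟨fun a b _ => Subsingleton.elim _ _, fun x => ⟨0, Subsingleton.elim _ _⟩⟩

theorem isIso_app (hY : ∀ y : Y, IsIntegrallyClosed (Y.presheaf.stalk y)) [IsProper f]
    (hgen : f (genericPoint X) = genericPoint Y) (hbir : IsIso (f.stalkMap (genericPoint X)))
    (U : Y.Opens) : IsIso (f.app U) :=
  Flat2C.ContrLocal.isIso_app_of_forall (V := ⊤) (fun U _ hU => app_bijective f hY hgen hbir U hU) U le_top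

omit [IsIntegral X] [IsIntegral Y] in
theorem isIso_unitToPush (h : ∀ U : Y.Opens, IsIso (f.app U)) : IsIso (ClSub.unitToPush f) := by
  rw [Scheme.Modules.Hom.isIso_iff_isIso_app]
  intro U
  rw [ConcreteCategory.isIso_iff_bijective]
  exact ConcreteCategory.bijective_of_isIso (f.app U)

end App

section Loc

variable {X Y : Scheme.{u}} (f : X ⟶ Y) (y : Y)

/-- Base change of an isomorphism over an open. -/
theorem isIso_base {T Z : Scheme.{u}} {f : X ⟶ Y} {j : T ⟶ Y} {q : Z ⟶ X} {p : Z ⟶ T}
    (H : IsPullback q p f j) (V : Y.Opens) (hV : IsIso (f ∣_ V)) : IsIso (p ∣_ (j ⁻¹ᵁ V)) := by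
  have h1 : IsPullback (p ⁻¹ᵁ (j ⁻¹ᵁ V)).ι (p ∣_ (j ⁻¹ᵁ V)) p (j ⁻¹ᵁ V).ι :=
    (isPullback_morphismRestrict p (j ⁻¹ᵁ V)).flip
  have h2 := h1.paste_horiz H
  have h3 : IsPullback (f ⁻¹ᵁ V).ι (f ∣_ V) f V.ι := (isPullback_morphismRestrict f V).flip
  have w : ((p ⁻¹ᵁ (j ⁻¹ᵁ V)).ι ≫ q) ≫ f = ((p ∣_ (j ⁻¹ᵁ V)) ≫ (j ∣_ V)) ≫ V.ι := by
    rw [h2.w, Category.assoc, morphismRestrict_ι]
  have h4 : IsPullback (h3.lift _ _ w) (p ∣_ (j ⁻¹ᵁ V)) (f ∣_ V) (j ∣_ V) := by
    refine IsPullback.of_right ?_ (h3.lift_snd _ _ w) h3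
    rw [h3.lift_fst, morphismRestrict_ι]
    exact h2
  exact MorphismProperty.of_isPullback (P := MorphismProperty.isomorphisms Scheme) h4 hV

/-- the localization of `f` at a point of the base. -/
theorem isNormal_pullback (hX : Pi1.IsNormalScheme X) : Pi1.IsNormalScheme (pullback f (Y.fromSpecStalk y)) := by
  intro t
  have h1 := S4366.result f y t
  have e : X.presheaf.stalk (pullback.fst f (Y.fromSpecStalk y) t) ≃+*
      (pullback f (Y.fromSpecStalk y)).presheaf.stalk t :=
    (asIso ((pullback.fst f (Y.fromSpecStalk y)).stalkMap t)).commRingCatIsoToRingEquiv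
  obtain ⟨h2, h3⟩ := hX (pullback.fst f (Y.fromSpecStalk y) t)
  have h4 := e.symm.toMulEquiv.isDomain
  exact ⟨e.symm.toMulEquiv.isDomain, IsIntegrallyClosed.of_equiv e⟩

variable [IsIntegral X] [IsIntegral Y]

theorem isIntegral_pullback (hgen : f (genericPoint X) = genericPoint Y) :
    IsIntegral (pullback f (Y.fromSpecStalk y)) := by
  let a := pullback.fst f (Y.fromSpecStalk y)
  have hpre : IsPreimmersion a := inferInstance
  have h0 : genericPoint Y ∈ Set.range (Y.fromSpecStalk y) := by
    rw [Scheme.range_fromSpecStalk]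
    exact genericPoint_specializes y
  have h1 : genericPoint X ∈ Set.range a := by
    have h2 : Set.range a = f ⁻¹' Set.range (Y.fromSpecStalk y) := Scheme.Pullback.range_fst _ _
    rw [h2, Set.mem_preimage, hgen]
    exact h0
  obtain ⟨η, hη⟩ := h1
  have hspec : ∀ z : ↥(pullback f (Y.fromSpecStalk y)), η ⤳ z := by
    intro z
    rw [← a.isEmbedding.isInducing.specializes_iff]
    rw [hη]
    exact genericPoint_specializes _
  have hirr : IrreducibleSpace ↥(pullback f (Y.fromSpecStalk y)) := by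
    have h3 : closure {η} = (Set.univ : Set ↥(pullback f (Y.fromSpecStalk y))) := by
      rw [Set.eq_univ_iff_forall]
      intro z
      exact (hspec z).mem_closure
    have h4 : IsIrreducible (Set.univ : Set ↥(pullback f (Y.fromSpecStalk y))) := by
      rw [← h3]
      exact isIrreducible_singleton.closure
    exact { toPreirreducibleSpace := ⟨h4.2⟩, toNonempty := ⟨η⟩ }
  have hred : IsReduced (pullback f (Y.fromSpecStalk y)) := by
    have h5 : ∀ t : ↥(pullback f (Y.fromSpecStalk y)),
        _root_.IsReduced ((pullback f (Y.fromSpecStalk y)).presheaf.stalk t) := by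
      intro t
      have h1 := S4366.result f y t
      exact isReduced_of_injective
        (asIso ((pullback.fst f (Y.fromSpecStalk y)).stalkMap t)).commRingCatIsoToRingEquiv.symm
        (RingEquiv.injective _)
    exact isReduced_of_isReduced_stalk _
  exact isIntegral_of_irreducibleSpace_of_isReduced _

omit [IsIntegral X] in
theorem exists_open_pullback (U : Y.Opens) (hU : (U : Set Y).Nonempty) (h : IsIso (f ∣_ U)) :
    ∃ V : (Spec (Y.presheaf.stalk y)).Opens, (V : Set (Spec (Y.presheaf.stalk y))).Nonempty ∧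
      IsIso ((pullback.snd f (Y.fromSpecStalk y)) ∣_ V) := by
  refine ⟨(Y.fromSpecStalk y) ⁻¹ᵁ U, ?_, isIso_base (IsPullback.of_hasPullback f (Y.fromSpecStalk y)) U h⟩
  have h0 : genericPoint Y ∈ Set.range (Y.fromSpecStalk y) := by
    rw [Scheme.range_fromSpecStalk]
    exact genericPoint_specializes y
  obtain ⟨η, hη⟩ := h0
  refine ⟨η, ?_⟩
  change Y.fromSpecStalk y η ∈ U
  rw [hη]
  exact ((genericPoint_spec Y).mem_open_set_iff U.isOpen).mpr (by simpa using hU)

end Loc

end K380.Bir
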