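import Groth.Agent.Models.H64.RegInt
import Groth.Agent.Models.H58.CurveBC
import Mathlib.AlgebraicGeometry.Geometrically.Connected
import Mathlib.AlgebraicGeometry.Morphisms.Smooth

/-!
# Integrality of normal models of geometrically connected smooth curves
-/

set_option autoImplicit false
universe u

open CategoryTheory CategoryTheory.Limits AlgebraicGeometry

namespace K380.NormInt

open Groth.Agent

/-- A smooth geometrically connected scheme over a field is integral. -/
theorem isIntegral_of_smooth {K : Type u} [Field K] {C : Scheme.{u}} (f : C ⟶ Spec (CommRingCat.of K))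
    [Smooth f] [GeometricallyConnected f] : IsIntegral C := by
  have h1 : IsLocallyNoetherian C := LocallyOfFiniteType.isLocallyNoetherian f
  have h2 : ConnectedSpace C := GeometricallyConnected.connectedSpace_of_subsingleton f
  rw [Ega1.GenPts.isIntegral_iff]
  exact ⟨h2, fun x => (Sga4B.SmoothNormal.isNormalScheme_of_smooth f x).1⟩

variable {R : Type u} [CommRing R] [IsDomain R] [IsDiscreteValuationRing R]
  {K : Type u} [Field K] [Algebra R K] [IsFractionRing R K]
  {C X : Scheme.{u}} {f : C ⟶ Spec (CommRingCat.of K)} {g : C ⟶ X} {p : X ⟶ Spec (CommRingCat.of R)}

/-- A flat normal scheme over a discrete valuation ring with integral generic fibre is integral. -/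
theorem isIntegral (h : IsPullback g f p (Spec.map (CommRingCat.ofHom (algebraMap R K)))) [Flat p]
    [IsIntegral C] (hn : Pi1.IsNormalScheme X) : IsIntegral X := by
  have h1 : ∀ x : X, _root_.IsReduced (X.presheaf.stalk x) := by
    intro x
    have := (hn x).1
    infer_instance
  have h2 : IsReduced X := isReduced_of_isReduced_stalk X
  have h3 : IrreducibleSpace X := by
    have h4 : IsIrreducible (Set.range g) := by
      rw [← Set.image_univ]
      exact (IrreducibleSpace.isIrreducible_univ C).image g g.continuous.continuousOn
    have h5 := h4.closure
    rw [(Models.H64.RegInt.denseRange h).closure_range] at h5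
    exact { isPreirreducible_univ := h5.isPreirreducible, toNonempty := ⟨h5.nonempty.some⟩ }
  exact isIntegral_of_irreducibleSpace_of_isReduced X

end K380.NormInt
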