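import Groth.Agent.Models.K380.FamPull
import Groth.Agent.Models.K380.NormInt
import Groth.Agent.CurvesB.RegModelNorm
import Groth.Agent.Dix.RegSurfConn979

/-!
# Normalized base change of a model and functions modulo `π`

`X` proper over `R`, `φ : R → V` a homomorphism of discrete valuation rings, `C'` a smooth geometrically
connected curve which is the generic fibre of `X_V` and has a rational point. A family of functions on `X`
compatible modulo `t ∈ R` becomes constant modulo `t` on the normalization of `X_V` in `C'`.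
-/

set_option autoImplicit false
universe u

open CategoryTheory CategoryTheory.Limits AlgebraicGeometry Opposite TopologicalSpace

namespace K380.NormBC

open Groth.Agent Groth.Agent.Dix.NormalSec Groth.Agent.Fdesc.LocGen Groth.Agent.Models.H67.NormFam
open Groth.Agent.Models.H67.NormRoot Groth.Agent.Models.H67.FibreField Groth.Agent.Models.H67
open K380.Slope K380.FamPull

theorem geometricallyReduced_of_smooth {K : Type u} [Field K] {C : Scheme.{u}}
    (f : C ⟶ Spec (CommRingCat.of K)) [Smooth f] : GeometricallyReduced f := by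
  refine ⟨fun K' _ y Z fst snd h => ?_⟩
  have : Smooth snd := MorphismProperty.of_isPullback h inferInstance
  have h1 : ∀ z : Z, _root_.IsReduced (Z.presheaf.stalk z) := fun z => by
    have := (Sga4B.SmoothNormal.isNormalScheme_of_smooth snd z).1
    infer_instance
  exact isReduced_of_isReduced_stalk Z

/-- `H^0 = K` for a proper smooth geometrically connected scheme over a field. -/
theorem isIso_appTop_of_smooth {K : Type u} [Field K] {C : Scheme.{u}}
    (f : C ⟶ Spec (CommRingCat.of K)) [Smooth f] [IsProper f] [GeometricallyConnected f] :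
    IsIso f.appTop := by
  have := geometricallyReduced_of_smooth f
  rw [ConcreteCategory.isIso_iff_bijective]
  exact Dix.RegSurfConn979.bijective_appTop f

section Val

variable {Z X Y : Scheme.{u}} [IsIntegral Z]

/-- The value of a function on `Y` in the function field of `Z`. -/
noncomputable def val (h : Z ⟶ Y) (U : Y.Opens) (hU : h (genericPoint Z) ∈ U) :
    Γ(Y, U) →+* Z.functionField :=
  (germ (h ⁻¹ᵁ U) (genericPoint Z) hU).comp (ap h U)

lemma val_comp (h : Z ⟶ Y) (k : Y ⟶ X) (U : X.Opens) (hU : (h ≫ k) (genericPoint Z) ∈ U) (a : Γ(X, U)) :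
    val (h ≫ k) U hU a = val h (k ⁻¹ᵁ U) hU (ap k U a) := by
  change germ _ (genericPoint Z) _ (ap (h ≫ k) U a) = _
  rw [ap_comp]
  rfl

lemma val_ores (h : Z ⟶ Y) {U V : Y.Opens} (hVU : V ≤ U) (hV : h (genericPoint Z) ∈ V) (a : Γ(Y, U)) :
    val h V hV (ores hVU a) = val h U (hVU hV) a := by
  change germ _ (genericPoint Z) _ (ap h V (ores hVU a)) = _
  rw [ap_ores]
  exact germ_ores _ _ _ _

lemma val_congr {h h' : Z ⟶ Y} (e : h = h') (U : Y.Opens) (hU : h (genericPoint Z) ∈ U)
    (hU' : h' (genericPoint Z) ∈ U) (a : Γ(Y, U)) : val h U hU a = val h' U hU' a := by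
  subst e
  rfl

end Val

lemma ap_gb {R V : Type u} [CommRing R] [CommRing V] {φ : R →+* V} {X Y : Scheme.{u}}
    {p : X ⟶ Spec (CommRingCat.of R)} {b : Y ⟶ X} {q : Y ⟶ Spec (CommRingCat.of V)}
    (w : b ≫ p = q ≫ Spec.map (CommRingCat.ofHom φ)) (t : R) : ap b ⊤ (gb p t) = gb q (φ t) := by
  have h1 : ap b ⊤ (gb p t) = gb (b ≫ p) t := (CurvesC.QuotZero.glob_comp b p t).symm
  rw [h1, w]
  change ((q ≫ Spec.map (CommRingCat.ofHom φ)).appTop).hom ((Scheme.ΓSpecIso (CommRingCat.of R)).inv.hom t) =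
    (q.appTop).hom ((Scheme.ΓSpecIso (CommRingCat.of V)).inv.hom (φ t))
  rw [Scheme.Hom.comp_appTop]
  have h2 := congr(($(Scheme.ΓSpecIso_inv_naturality (CommRingCat.ofHom φ))).hom t)
  exact congrArg (q.appTop).hom h2.symm

/-- A pushout of rings is generated by the two factors. -/
theorem closure_of_isPushout {A B C P : CommRingCat.{u}} {f : A ⟶ B} {g : A ⟶ C} {inl : B ⟶ P} {inr : C ⟶ P}
    (h : IsPushout f g inl inr) (y : P) : y ∈ Subring.closure (Set.range inl.hom ∪ Set.range inr.hom) := by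
  let T : Subring P := Subring.closure (Set.range inl.hom ∪ Set.range inr.hom)
  let l : B ⟶ CommRingCat.of T := CommRingCat.ofHom
    (inl.hom.codRestrict T (fun x => Subring.subset_closure (Or.inl ⟨x, rfl⟩)))
  let r : C ⟶ CommRingCat.of T := CommRingCat.ofHom
    (inr.hom.codRestrict T (fun x => Subring.subset_closure (Or.inr ⟨x, rfl⟩)))
  have hlr : f ≫ l = g ≫ r := by
    ext x
    exact congr(($(h.w)).hom x)
  let d := h.desc l r hlr
  have hd : d ≫ CommRingCat.ofHom T.subtype = 𝟙 P := by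
    apply h.hom_ext
    · rw [← Category.assoc, h.inl_desc, Category.comp_id]
      rfl
    · rw [← Category.assoc, h.inr_desc, Category.comp_id]
      rfl
  have h1 : T.subtype (d.hom y) = y := congr(($hd).hom y)
  rw [← h1]
  exact (d.hom y).2

section Gen

variable {R V : Type u} [CommRing R] [CommRing V] {φ : R →+* V} {X Y : Scheme.{u}}
    {p : X ⟶ Spec (CommRingCat.of R)} {b : Y ⟶ X} {q : Y ⟶ Spec (CommRingCat.of V)}

/-- The functions over an affine open of a base change are generated by the functions downstairs and the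
constants. -/
theorem mem_closure (H : IsPullback b q p (Spec.map (CommRingCat.ofHom φ))) {U : X.Opens}
    (hU : IsAffineOpen U) (y : Γ(Y, b ⁻¹ᵁ U)) :
    y ∈ Subring.closure (Set.range (ap b U) ∪ Set.range (fun v : V => (ores le_top (gb q v) : Γ(Y, b ⁻¹ᵁ U)))) := by
  have h1 := isIso_pushoutSection_of_isAffineOpen H (US := ⊤) (UT := ⊤) (UX := U)
    (UY := b ⁻¹ᵁ U) le_top le_top (by simp) (isAffineOpen_top _) (isAffineOpen_top _) hU
  have h2 := (isIso_pushoutSection_iff H (US := ⊤) (UT := ⊤) (UX := U)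
    (UY := b ⁻¹ᵁ U) le_top le_top (by simp)).mp h1
  have h3 := closure_of_isPushout h2 y
  refine Subring.closure_mono ?_ h3
  rintro _ (⟨a, rfl⟩ | ⟨a, rfl⟩)
  · left
    refine ⟨a, ?_⟩
    rw [Scheme.Hom.appLE_eq_app]
    rfl
  · right
    refine ⟨(Scheme.ΓSpecIso (CommRingCat.of V)).hom.hom a, ?_⟩
    have h4 : gb q ((Scheme.ΓSpecIso (CommRingCat.of V)).hom.hom a) = (q.appTop).hom a := by
      change (q.appTop).hom ((Scheme.ΓSpecIso (CommRingCat.of V)).inv.hom
        ((Scheme.ΓSpecIso (CommRingCat.of V)).hom.hom a)) = _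
      have h5 := congr(($((Scheme.ΓSpecIso (CommRingCat.of V)).hom_inv_id)).hom a)
      exact congrArg (q.appTop).hom h5
    change ores le_top (gb q ((Scheme.ΓSpecIso (CommRingCat.of V)).hom.hom a)) = _
    rw [h4]
    rfl

end Gen

section Main

variable {R V : Type u} [CommRing R] [CommRing V] [IsDomain V]
  [IsDiscreteValuationRing V] {φ : R →+* V} {C' X Y : Scheme.{u}}
  {p : X ⟶ Spec (CommRingCat.of R)} {b : Y ⟶ X} {q : Y ⟶ Spec (CommRingCat.of V)}
  {f' : C' ⟶ Spec (CommRingCat.of (FractionRing V))} {g' : C' ⟶ Y}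

/-- A family on `X` compatible modulo `t` becomes constant modulo `t` on the normalization of `X_V` in `C'`. -/
theorem exists_const_normalization [Smooth f'] [IsProper f'] [GeometricallyConnected f'] [IsProper p]
    (H : IsPullback b q p (Spec.map (CommRingCat.ofHom φ)))
    (hg' : IsPullback g' f' q (Spec.map (CommRingCat.ofHom (algebraMap V (FractionRing V)))))
    (s : Spec (CommRingCat.of (FractionRing V)) ⟶ C') (hs : s ≫ f' = 𝟙 _) {t : R} (ht : φ t ≠ 0)
    (F : Fam (gb p t)) [IsIntegral C'] :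
    ∃ r : V, ∀ (U : X.affineOpens) (hU : (g' ≫ b) (genericPoint C') ∈ U.1),
      ∃ θ : C'.functionField, (val g' (b ⁻¹ᵁ U.1) hU).IsIntegralElem θ ∧
        val (g' ≫ b) U.1 hU (ores le_top (gb p t)) * θ =
          val (g' ≫ b) U.1 hU (F.a U) - val g' ⊤ trivial (gb q r) := by
  have hnorm : Pi1.IsNormalScheme C' := Sga4B.SmoothNormal.isNormalScheme_of_smooth f'
  have hqp : IsProper q := MorphismProperty.of_isPullback H inferInstance
  have hbaff : IsAffineHom b := MorphismProperty.of_isPullback H.flip inferInstance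
  have hgaff : IsAffineHom g' := MorphismProperty.of_isPullback hg'.flip inferInstance
  obtain ⟨hfin, hint, hn, hprop, hflat, hpb⟩ :=
    CurvesB.RegModelNorm.isModel_normalization V f' hnorm q g' hg'
  have hH0 := isIso_appTop_of_smooth f'
  have hc := isConnected_specialFibreSet hpb hH0
  obtain ⟨σ, hσ, -⟩ := Section.exists_section hpb.w s hs
  obtain ⟨ϖ, hϖ⟩ := IsDiscreteValuationRing.exists_irreducible V
  obtain ⟨e, u, hu⟩ := IsDiscreteValuationRing.eq_unit_mul_pow_irreducible ht hϖ
  let ν : g'.normalization ⟶ X := g'.fromNormalization ≫ b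
  have hν : ap ν ⊤ (gb p t) = gb (g'.fromNormalization ≫ q) (φ t) :=
    ap_gb (φ := φ) (by rw [Category.assoc, H.w, Category.assoc]) t
  obtain ⟨F', hF'⟩ := exists_pull ν F hν
  obtain ⟨r, hr⟩ := exists_const_of_dvd (g'.fromNormalization ≫ q) (s := ϖ ^ e) (t := φ t)
    (by rw [hu]; exact dvd_mul_left _ _) (by
      rw [hu]
      refine ⟨↑(u⁻¹), ?_⟩
      rw [mul_comm (u : V), mul_assoc, Units.mul_inv, mul_one])
    (fun F => exists_const_pow (g'.fromNormalization ≫ q) hn hc σ hσ hϖ e F) F'
  refine ⟨r, fun U hU => ?_⟩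
  have hbU : IsAffineOpen (b ⁻¹ᵁ U.1) := U.2.preimage b
  have hνU : IsAffineOpen (ν ⁻¹ᵁ U.1) := hbU.preimage g'.fromNormalization
  obtain ⟨c, hc1⟩ := hF' U hνU
  obtain ⟨d, hd⟩ := hr ⟨ν ⁻¹ᵁ U.1, hνU⟩
  -- the function `(a - r)/t`
  have hj : g'.toNormalization ≫ ν = g' ≫ b := by
    change g'.toNormalization ≫ g'.fromNormalization ≫ b = _
    rw [← Category.assoc, Scheme.Hom.toNormalization_fromNormalization]
  have hjU0 : (g'.toNormalization ≫ ν) (genericPoint C') ∈ U.1 := by rw [hj]; exact hU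
  have hjU : g'.toNormalization (genericPoint C') ∈ ν ⁻¹ᵁ U.1 := hjU0
  have hval : ∀ a : Γ(X, U.1), val (g' ≫ b) U.1 hU a =
      val g'.toNormalization (ν ⁻¹ᵁ U.1) hjU (ap ν U.1 a) := by
    intro a
    exact (val_congr hj.symm U.1 hU hjU0 a).trans (val_comp _ _ _ hjU0 a)
  have hdc : ap ν U.1 (F.a U) - ores le_top (gb (g'.fromNormalization ≫ q) r) =
      ores le_top (gb (g'.fromNormalization ≫ q) (φ t)) * (d - c) := by
    rw [mul_sub, ← hd, ← hc1]
    ring
  have h3 : g'.toNormalization ≫ g'.fromNormalization = g' :=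
    Scheme.Hom.toNormalization_fromNormalization _
  refine ⟨val g'.toNormalization (ν ⁻¹ᵁ U.1) hjU (d - c), ?_, ?_⟩
  · have h1 : (g'.fromNormalization.app (b ⁻¹ᵁ U.1)).hom.IsIntegralElem (d - c) :=
      IsIntegralHom.isIntegral_app g'.fromNormalization (b ⁻¹ᵁ U.1) hbU (d - c)
    obtain ⟨P, hP, hP'⟩ := h1
    refine ⟨P, hP, ?_⟩
    have h4 : (g'.toNormalization ≫ g'.fromNormalization) (genericPoint C') ∈ b ⁻¹ᵁ U.1 := by
      rw [h3]; exact hU
    have h2 : val g' (b ⁻¹ᵁ U.1) hU = (val g'.toNormalization (ν ⁻¹ᵁ U.1) hjU).comp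
        (g'.fromNormalization.app (b ⁻¹ᵁ U.1)).hom := by
      ext a
      exact (val_congr h3.symm _ hU h4 a).trans (val_comp _ _ _ h4 a)
    rw [h2]
    exact (Polynomial.hom_eval₂ _ _ _ _).symm.trans ((congrArg _ hP').trans (map_zero _))
  · have h5 : val (g' ≫ b) U.1 hU (ores le_top (gb p t)) =
        val g'.toNormalization (ν ⁻¹ᵁ U.1) hjU (ores le_top (gb (g'.fromNormalization ≫ q) (φ t))) := by
      rw [hval, ap_ores, hν]
      rfl
    have h6 : val g' ⊤ trivial (gb q r) =
        val g'.toNormalization (ν ⁻¹ᵁ U.1) hjU (ores le_top (gb (g'.fromNormalization ≫ q) r)) := by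
      refine ((val_congr h3.symm ⊤ trivial trivial (gb q r)).trans
        (val_comp g'.toNormalization g'.fromNormalization ⊤ trivial (gb q r))).trans ?_
      refine Eq.trans ?_ (val_ores _ _ _ _).symm
      exact congrArg _ (CurvesC.QuotZero.glob_comp g'.fromNormalization q r).symm
    rw [h5, h6, hval, ← map_mul, ← hdc, map_sub]

end Main

end K380.NormBC
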