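import Groth.Agent.Models.H56.RedFib
import Groth.Agent.Models.H58.CurveBC
import Groth.Agent.Models3.H44.FibDim
import Groth.Agent.S3388
import Groth.Agent.VarietyB.DimTop
import Groth.Agent.Models.H64.RegInt
import Groth.Agent.CurvesB.HZero

/-!
# The generic fibre of a regular proper model whose closed fibre has a list of one dimensional components
-/

set_option autoImplicit false
universe u

open CategoryTheory CategoryTheory.Limits AlgebraicGeometry TopologicalSpace

namespace K380.ModelCurve

open Groth.Agent Groth.Agent.Models.H56.RedFib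

section Field

variable {K : Type u} [Field K] {C : Scheme.{u}} (f : C ⟶ Spec (CommRingCat.of K))

/-- If `dim_K H^0(C, O_C) = 1` then `K → Γ(C, O_C)` is an isomorphism. -/
theorem isIso_appTop (h0 : _root_.Models.hRank K C f (Coh.structureModule C) 0 = 1) : IsIso f.appTop := by
  let _ : C.Over (Spec (CommRingCat.of K)) := ⟨f⟩
  have h0' : Module.finrank K (Coh.HH C (Coh.structureModule C) 0) = 1 := h0
  have hnt : Nontrivial Γ(C, ⊤) := by
    have h1 : Nontrivial (Coh.HH C (Coh.structureModule C) 0) := by
      by_contra h
      rw [not_nontrivial_iff_subsingleton] at h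
      rw [Module.finrank_zero_of_subsingleton] at h0'
      exact absurd h0' (by norm_num)
    exact (CurvesB.HZero.equivO C).injective.nontrivial
  have hs : Function.Surjective f.appTop := by
    intro s
    obtain ⟨t, ht⟩ := CurvesB.HZero.exists_const K h0' s
    exact ⟨(Scheme.ΓSpecIso (CommRingCat.of K)).inv t, ht⟩
  have hfield : IsField Γ(Spec (CommRingCat.of K), ⊤) :=
    (Scheme.ΓSpecIso (CommRingCat.of K)).commRingCatIsoToRingEquiv.toMulEquiv.isField (Field.toIsField K)
  have hi : Function.Injective f.appTop := by
    let _ := hfield.toField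
    exact RingHom.injective f.appTop.hom
  exact (ConcreteCategory.isIso_iff_bijective f.appTop).2 ⟨hi, hs⟩

/-- A smooth scheme over a field with only constant functions is integral. -/
theorem isIntegral [Smooth f] (h : IsIso f.appTop) : IsIntegral C := by
  have e : Γ(Spec (CommRingCat.of K), ⊤) ≅ Γ(C, ⊤) := asIso f.appTop
  have hd : IsDomain Γ(Spec (CommRingCat.of K), ⊤) :=
    (Scheme.ΓSpecIso (CommRingCat.of K)).commRingCatIsoToRingEquiv.toMulEquiv.isDomain _
  have hd' : IsDomain Γ(C, ⊤) := e.symm.commRingCatIsoToRingEquiv.toMulEquiv.isDomain _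
  have hne : Nonempty C := by
    by_contra hne
    rw [not_nonempty_iff] at hne
    have : Subsingleton Γ(C, ⊤) := inferInstance
    exact not_subsingleton _ this
  exact Models.H58.CurveBC.isIntegral_of_smooth f hd'

end Field

section Model

variable {R : Type u} [CommRing R] [IsDomain R] [IsDiscreteValuationRing R]
  {C X : Scheme.{u}} {f : C ⟶ Spec (CommRingCat.of (FractionRing R))} {p : X ⟶ Spec (CommRingCat.of R)}

/-- the reduced closed fibre is homeomorphic to the closed fibre. -/
theorem dim_Y_eq : topologicalKrullDim (Y p) = topologicalKrullDim (p.fiber (IsLocalRing.closedPoint R)) := by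
  have h1 : topologicalKrullDim (Y p) = topologicalKrullDim (Set.range (incl p)) :=
    IsHomeomorph.topologicalKrullDim_eq _ ((incl p).isClosedEmbedding.isEmbedding.toHomeomorph).isHomeomorph
  have h2 : topologicalKrullDim (p.fiber (IsLocalRing.closedPoint R)) =
      topologicalKrullDim (p ⁻¹' {IsLocalRing.closedPoint R}) :=
    IsHomeomorph.topologicalKrullDim_eq _ (p.fiberHomeo (IsLocalRing.closedPoint R)).isHomeomorph
  have h3 : Set.range (incl p) = p ⁻¹' {IsLocalRing.closedPoint R} := by
    rw [range_incl]
    rfl
  rw [h1, h2, h3]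

/-- the reduced closed fibre has dimension at most one. -/
theorem dim_Y_le {n : ℕ} {Γ : Fin n → ArSurf.VertComp R (Over.mk p)}
    (hΓ : _root_.Models.IsComponentList R (Over.mk p) Γ) : topologicalKrullDim (Y p) ≤ 1 := by
  rw [VarietyB.DimTop.topologicalKrullDim_eq_iSup_irreducibleComponents]
  refine iSup_le fun Z => ?_
  obtain ⟨T, hT⟩ := Z
  rw [← range_comp_eq p hΓ] at hT
  obtain ⟨i, rfl⟩ := hT
  change topologicalKrullDim (Set.range (comp p (Γ i))) ≤ 1
  rw [← (Γ i).dim_eq]
  have h1 := (comp p (Γ i)).isClosedEmbedding.isEmbedding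
  exact (IsHomeomorph.topologicalKrullDim_eq _ h1.toHomeomorph.isHomeomorph).ge

theorem one_le_dim_Y (Γ : ArSurf.VertComp R (Over.mk p)) : 1 ≤ topologicalKrullDim (Y p) := by
  rw [← Γ.dim_eq]
  exact (Topology.IsClosedEmbedding.isInducing (comp p Γ).isClosedEmbedding).topologicalKrullDim_le -- (comp p Γ).isClosedEmbedding

/-- **The generic fibre is a smooth proper curve** if the closed fibre has a nonempty list of one dimensional
components. -/
theorem isSmoothProperCurve [IsProper f] [Smooth f] (hH0 : IsIso f.appTop)
    (hX : _root_.Models.IsRegularProperModel R X p C f) {n : ℕ} {Γ : Fin n → ArSurf.VertComp R (Over.mk p)}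
    (hΓ : _root_.Models.IsComponentList R (Over.mk p) Γ) (i : Fin n) :
    Curve.IsSmoothProperCurve (FractionRing R) C f := by
  obtain ⟨⟨hflat, hlft, hqc, g, hg⟩, hprop, hreg⟩ := hX
  have hCint : IsIntegral C := isIntegral f hH0
  have hint : IsIntegral X := Models.H64.RegInt.isIntegral hg hreg
  refine ⟨inferInstance, inferInstance, hCint, le_antisymm ?_ ?_⟩
  · -- upper semicontinuity
    let x : Spec (CommRingCat.of (FractionRing R)) := IsLocalRing.closedPoint (FractionRing R)
    have hdim := Flat2G.ProperDim.topologicalKrullDim_field_point p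
      (K := CommRingCat.of (FractionRing R)) (Field.toIsField (FractionRing R)) f g _ hg x
    rw [hdim]
    have hgen : (Spec.map (CommRingCat.ofHom (algebraMap R (FractionRing R)))) x =
        genericPoint (Spec (CommRingCat.of R)) := by
      rw [genericPoint_eq_bot_of_affine]
      refine PrimeSpectrum.ext ?_
      change Ideal.comap (algebraMap R (FractionRing R)) (IsLocalRing.maximalIdeal (FractionRing R)) = ⊥
      rw [IsLocalRing.isField_iff_maximalIdeal_eq.1 (Field.toIsField (FractionRing R))]
      exact (RingHom.injective_iff_ker_eq_bot _).1 (IsFractionRing.injective R (FractionRing R))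
    rw [hgen]
    obtain ⟨y⟩ : Nonempty (Γ i).curve.left := inferInstance
    let z : X := incl p (comp p (Γ i) y)
    have hz : p z = IsLocalRing.closedPoint R := by
      have h1 : z ∈ _root_.Models.specialFibreSet R (Over.mk p) := by
        rw [← range_incl]
        exact ⟨_, rfl⟩
      exact h1
    have hdom : IsDominant p := by
      constructor
      have h2 : (genericPoint (Spec (CommRingCat.of R))) ∈ Set.range p := by
        obtain ⟨c⟩ : Nonempty C := inferInstance
        refine ⟨g c, ?_⟩
        rw [← Scheme.Hom.comp_apply, hg.w, Scheme.Hom.comp_apply, ← hgen]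
        congr 1
        exact Subsingleton.elim _ _
      rw [DenseRange, dense_iff_closure_eq]
      have h3 := (genericPoint_spec (Spec (CommRingCat.of R))).def
      rw [Set.eq_univ_iff_forall]
      intro s
      have h4 : s ∈ closure {genericPoint (Spec (CommRingCat.of R))} := by
        rw [h3]; trivial
      exact closure_mono (Set.singleton_subset_iff.2 h2) h4
    refine (S3388.result p z).trans ?_
    refine (VarietyB.DimTop.localDim_le_dim _).trans ?_
    rw [hz, ← dim_Y_eq]
    exact dim_Y_le hΓ
  · refine (one_le_dim_Y (Γ i)).trans ?_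
    rw [dim_Y_eq]
    exact Models3.H44.FibDim.topologicalKrullDim_closedFibre_le R f p g hg _ le_rfl

end Model

end K380.ModelCurve
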