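import Groth.Agent.Models.H67.H0Fibre
import Mathlib.FieldTheory.IsAlgClosed.Basic

/-!
# `H^0` of a closed subscheme of a proper scheme over a discrete valuation ring with algebraically closed
residue field: it has length one as soon as it is a field
-/

set_option autoImplicit false
universe u

open CategoryTheory CategoryTheory.Limits AlgebraicGeometry TopologicalSpace

namespace K380.AlgH0

open Groth.Agent Groth.Agent.CurvesC.QuotZero

section Alg

/-- An integral ring homomorphism from a local ring with algebraically closed residue field to a field is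
surjective with kernel the maximal ideal. -/
theorem surjective_and_ker {R κ : Type*} [CommRing R] [IsLocalRing R] [IsAlgClosed (IsLocalRing.ResidueField R)]
    [CommRing κ] (hκ : IsField κ) (φ : R →+* κ) (hφ : φ.IsIntegral) :
    Function.Surjective φ ∧ ∀ r ∈ IsLocalRing.maximalIdeal R, φ r = 0 := by
  let _ := hκ.toField
  have hker : (RingHom.ker φ).IsMaximal := by
    have h1 : (⊥ : Ideal κ).IsMaximal := Ideal.bot_isMaximal
    have h2 := Ideal.isMaximal_comap_of_isIntegral_of_isMaximal' φ hφ (⊥ : Ideal κ)
    exact h2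
  have hker' : RingHom.ker φ = IsLocalRing.maximalIdeal R := IsLocalRing.eq_maximalIdeal hker
  have hzero : ∀ r ∈ IsLocalRing.maximalIdeal R, φ r = 0 := fun r hr => by
    rw [← hker'] at hr
    exact hr
  refine ⟨?_, hzero⟩
  let ψ : IsLocalRing.ResidueField R →+* κ := Ideal.Quotient.lift _ φ hzero
  have hψint : ψ.IsIntegral := by
    have h2 : (ψ.comp (IsLocalRing.residue R)).IsIntegral := by
      have h1 : (ψ.comp (IsLocalRing.residue R)) = φ := by ext r; rfl
      rw [h1]; exact hφ
    exact h2.tower_top
  have hψ : Function.Surjective ψ := by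
    algebraize [ψ]
    have : Algebra.IsIntegral (IsLocalRing.ResidueField R) κ := ⟨hψint⟩
    exact (IsAlgClosed.algebraMap_bijective_of_isIntegral (k := IsLocalRing.ResidueField R) (K := κ)).2
  intro y
  obtain ⟨z, rfl⟩ := hψ y
  obtain ⟨r, rfl⟩ := IsLocalRing.residue_surjective z
  exact ⟨r, rfl⟩

end Alg

variable {R : Type u} [CommRing R] [IsDomain R] [IsDiscreteValuationRing R]
  {X : Scheme.{u}} {p : X ⟶ Spec (CommRingCat.of R)}

/-- If `H^0(Z, O_Z)` is a field for a closed subscheme `Z` of a proper `R`-scheme and the residue field of `R` is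
algebraically closed, then it has length one over `R`. -/
theorem lengthH_zero [IsProper p] (hk : IsAlgClosed (IsLocalRing.ResidueField R)) (I : X.IdealSheafData)
    (hF : IsField Γ(I.subscheme, ⊤)) :
    Models.lengthH R (Over.mk p) (ClSub.quotMod I) 0 = 1 := by
  let φ : R →+* Γ(I.subscheme, ⊤) := CurvesC.QuotZero.glob (I.subschemeι ≫ p)
  have hφint : φ.IsIntegral := by
    have h1 : ((Scheme.ΓSpecIso (CommRingCat.of R)).inv ≫ (I.subschemeι ≫ p).appTop).hom.IsIntegral := by
      apply RingHom.isIntegral_respectsIso.2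
        (e := (Scheme.ΓSpecIso (CommRingCat.of R)).symm.commRingCatIsoToRingEquiv)
      exact isIntegral_appTop_of_universallyClosed (I.subschemeι ≫ p)
    exact h1
  obtain ⟨hsurj, hkill⟩ := surjective_and_ker hF φ hφint
  let e : Coh.HH X (ClSub.quotMod I) 0 ≃+ Γ(I.subscheme, ⊤) := CurvesC.QuotZero.addQuot I
  let : X.Over (Spec (CommRingCat.of R)) := ⟨p⟩
  have hsmul : ∀ (t : R) (w : Coh.HH X (ClSub.quotMod I) 0), e (t • w) = φ t * e w :=
    fun t w => CurvesC.QuotZero.addQuot_smul I t w
  have hnt : Nontrivial Γ(I.subscheme, ⊤) := hF.nontrivial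
  have hlen : Module.length R (Coh.HH X (ClSub.quotMod I) 0) = 1 := by
    refine Models.H67.H0Fibre.length_eq_one (e.symm 1) ?_ ?_ ?_
    · intro h
      have h1 := congrArg e h
      rw [e.apply_symm_apply, map_zero] at h1
      exact one_ne_zero h1
    · intro w
      obtain ⟨r, hr⟩ := hsurj (e w)
      refine ⟨r, e.injective ?_⟩
      rw [hsmul, e.apply_symm_apply, mul_one, hr]
    · intro r hr
      apply e.injective
      rw [hsmul, hkill r hr, zero_mul, map_zero]
  change (Module.length R (Coh.HH X (ClSub.quotMod I) 0)).toNat = 1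
  rw [hlen]
  rfl

end K380.AlgH0
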