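import Groth.Agent.Models.K380.LocalConst
import Mathlib.RingTheory.DedekindDomain.Dvr
import Mathlib.RingTheory.DedekindDomain.IntegralClosure
import Mathlib.RingTheory.Localization.AsSubring

/-!
# Functions on the closed fibre in residue characteristic zero
-/

set_option autoImplicit false
universe u

open CategoryTheory CategoryTheory.Limits AlgebraicGeometry Opposite TopologicalSpace

namespace K380.CharZeroFlat

open Groth.Agent Groth.Agent.Dix.NormalSec Groth.Agent.Fdesc.LocGen Groth.Agent.Models.H67.NormFam
open Groth.Agent.Models.H67.NormRoot Groth.Agent.Models.H67.FibreField Groth.Agent.Models.H67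
open K380.Slope K380.FamPull K380.NormBC K380.FunFld K380.LocalConst

/-- A point with values in a finite extension. -/
lemma exists_point {K : Type u} [Field K] {C : Scheme.{u}} (f : C ⟶ Spec (CommRingCat.of K))
    [LocallyOfFiniteType f] [CompactSpace C] [Nonempty C] :
    ∃ (K' : Type u) (_ : Field K') (_ : Algebra K K') (_ : Module.Finite K K')
      (s : Spec (CommRingCat.of K') ⟶ C), s ≫ f = Spec.map (CommRingCat.ofHom (algebraMap K K')) := by
  obtain ⟨x, -, hx⟩ := IsClosed.exists_closed_singleton (X := C) isClosed_univ Set.univ_nonempty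
  have : JacobsonSpace C := LocallyOfFiniteType.jacobsonSpace f
  have h1 : LocallyOfFiniteType (C.fromSpecResidueField x) :=
    isClosed_singleton_iff_locallyOfFiniteType.mp hx
  let ψ : CommRingCat.of K ⟶ C.residueField x := Spec.preimage (C.fromSpecResidueField x ≫ f)
  have hψ : Spec.map ψ = C.fromSpecResidueField x ≫ f := Spec.map_preimage _
  have h2 : LocallyOfFiniteType (Spec.map ψ) := by rw [hψ]; infer_instance
  rw [HasRingHomProperty.Spec_iff (P := @LocallyOfFiniteType)] at h2
  let _ : Algebra K (C.residueField x) := ψ.hom.toAlgebra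
  have h3 : Algebra.FiniteType K (C.residueField x) := h2
  exact ⟨C.residueField x, inferInstance, inferInstance,
    finite_of_finite_type_of_isJacobsonRing K (C.residueField x), C.fromSpecResidueField x, hψ.symm⟩

variable {R : Type u} [CommRing R] [IsDomain R] [IsDiscreteValuationRing R]
  {C X : Scheme.{u}} {f : C ⟶ Spec (CommRingCat.of (FractionRing R))} {p : X ⟶ Spec (CommRingCat.of R)}
  {g : C ⟶ X}

theorem main (hn0 : ∀ n : ℕ, n ≠ 0 → IsUnit (n : R)) [Smooth f] [IsProper f] [GeometricallyConnected f]
    [IsProper p] [Flat p]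
    (hg : IsPullback g f p (Spec.map (CommRingCat.ofHom (algebraMap R (FractionRing R)))))
    (hn : Pi1.IsNormalScheme X) {t : R} (ht : t ≠ 0) (F : Fam (gb p t))
    {ι : Type*} [Finite ι] (U : ι → X.affineOpens) (hU : ∀ i, Nonempty (U i).1) :
    ∃ r : R, ∀ i, (ores le_top (gb p t) : Γ(X, (U i).1)) ∣ F.a (U i) - ores le_top (gb p r) := by
  have hC : IsIntegral C := NormInt.isIntegral_of_smooth f
  have hX : IsIntegral X := NormInt.isIntegral hg hn
  have hN : ∀ x : X, IsIntegrallyClosed (X.presheaf.stalk x) := fun x => (hn x).2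
  have hCc : CompactSpace C := QuasiCompact.compactSpace_of_compactSpace f
  obtain ⟨K', _, _, _, s, hs⟩ := exists_point f
  let _ : Algebra R K' := ((algebraMap (FractionRing R) K').comp (algebraMap R (FractionRing R))).toAlgebra
  have htow : IsScalarTower R (FractionRing R) K' := IsScalarTower.of_algebraMap_eq (fun _ => rfl)
  have hcz : CharZero (FractionRing R) := by
    apply charZero_of_inj_zero
    intro n hn1
    by_contra hne
    have h1 := (hn0 n hne).map (algebraMap R (FractionRing R))
    rw [map_natCast, hn1] at h1
    exact not_isUnit_zero h1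
  let R' := integralClosure R K'
  have hDed : IsDedekindDomain R' := integralClosure.isDedekindDomain R (FractionRing R) K'
  have hfrac : IsFractionRing R' K' := integralClosure.isFractionRing_of_finite_extension (FractionRing R) K'
  -- the curve over `K'`
  let C' := pullback f (Spec.map (CommRingCat.ofHom (algebraMap (FractionRing R) K')))
  let c : C' ⟶ C := pullback.fst _ _
  let f₁ : C' ⟶ Spec (CommRingCat.of K') := pullback.snd _ _
  have hc : IsPullback c f₁ f (Spec.map (CommRingCat.ofHom (algebraMap (FractionRing R) K'))) :=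
    IsPullback.of_hasPullback _ _
  have hsm : Smooth f₁ := MorphismProperty.of_isPullback (P := @Smooth) hc inferInstance
  have hgc : GeometricallyConnected f₁ :=
    MorphismProperty.of_isPullback (P := @GeometricallyConnected) hc inferInstance
  have hC' : IsIntegral C' := NormInt.isIntegral_of_smooth f₁
  let s' : Spec (CommRingCat.of K') ⟶ C' := pullback.lift s (𝟙 _) (by rw [hs, Category.id_comp])
  have hs' : s' ≫ f₁ = 𝟙 _ := pullback.lift_snd _ _ _
  -- the generic points
  have hdom : IsDominant (c ≫ g) := by
    have h1 : IsDominant g := ⟨Models.H64.RegInt.denseRange hg⟩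
    have h2 : Surjective (Spec.map (CommRingCat.ofHom (algebraMap (FractionRing R) K'))) :=
      ⟨fun y => ⟨(IsLocalRing.closedPoint K' : PrimeSpectrum K'),
        Subsingleton.elim (α := PrimeSpectrum (FractionRing R)) _ _⟩⟩
    have h3 : Surjective c := MorphismProperty.of_isPullback (P := @Surjective) hc.flip h2
    infer_instance
  have hgen : (c ≫ g) (genericPoint C') = genericPoint X := map_genericPoint (c ≫ g)
  have hgenU : ∀ i, genericPoint X ∈ (U i).1 := fun i => have := hU i; gen_mem (U i).1
  have hgenU' : ∀ i, (c ≫ g) (genericPoint C') ∈ (U i).1 := fun i => by rw [hgen]; exact hgenU i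
  obtain ⟨κ, hκ⟩ := exists_ff (c ≫ g) hgen
  let _ : Algebra R X.functionField := ((germ ⊤ (genericPoint X) trivial).comp (gb p)).toAlgebra
  let _ : Algebra X.functionField C'.functionField := κ.toAlgebra
  let _ : Algebra R C'.functionField := (κ.comp ((germ ⊤ (genericPoint X) trivial).comp (gb p))).toAlgebra
  have htow2 : IsScalarTower R X.functionField C'.functionField :=
    IsScalarTower.of_algebraMap_eq (fun _ => rfl)
  have hRL' : ∀ x : R, algebraMap R C'.functionField x = val (c ≫ g) ⊤ trivial (gb p x) :=
    fun x => hκ ⊤ trivial trivial (gb p x)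
  have hcomp : ∀ x : R, cst f₁ (algebraMap R K' x) = algebraMap R C'.functionField x := by
    intro x
    rw [hRL']
    have h1 : ap (c ≫ g) ⊤ (gb p x) = gb f₁ (algebraMap R K' x) := by
      refine ap_gb (φ := algebraMap R K') ?_ x
      rw [Category.assoc, hg.w, ← Category.assoc, hc.w, Category.assoc, ← Spec.map_comp]
      rfl
    change _ = germ _ (genericPoint C') _ (ap (c ≫ g) ⊤ (gb p x))
    rw [h1]
    rfl
  have hδ : ∀ r : R', IsIntegral R (((cst f₁).comp (algebraMap R' K')) r) := by
    intro r
    obtain ⟨P, hP, hP'⟩ := r.2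
    refine ⟨P, hP, ?_⟩
    have h1 : algebraMap R C'.functionField = (cst f₁).comp (algebraMap R K') := by
      ext x
      exact (hcomp x).symm
    rw [h1]
    exact (Polynomial.hom_eval₂ _ _ _ _).symm.trans ((congrArg _ hP').trans (map_zero _))
  have hint : ∀ i (y : C'.functionField), IsIntegral R y →
      (val (c ≫ g) (U i).1 (hgenU' i)).IsIntegralElem y := by
    intro i y hy
    obtain ⟨P, hP, hP'⟩ := hy
    refine ⟨P.map ((ores le_top).comp (gb p)), hP.map _, ?_⟩
    rw [Polynomial.eval₂_map]
    have h1 : (val (c ≫ g) (U i).1 (hgenU' i)).comp ((ores le_top).comp (gb p)) =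
        algebraMap R C'.functionField := by
      ext x
      rw [hRL']
      exact val_ores _ le_top (hgenU' i) (gb p x)
    rw [h1]
    exact hP'
  have hH0 := isIso_appTop_of_smooth f
  have hsurj : Function.Surjective (gb p) := by
    have h1 : IsIso p.appTop := Models.DVRGeneric.isIso_appTop hg hH0
    have h2 : Function.Bijective p.appTop.hom := ConcreteCategory.bijective_of_isIso p.appTop
    intro y
    obtain ⟨z, rfl⟩ := h2.2 y
    refine ⟨(Scheme.ΓSpecIso (CommRingCat.of R)).hom.hom z, ?_⟩
    have h5 := congr(($((Scheme.ΓSpecIso (CommRingCat.of R)).hom_inv_id)).hom z)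
    exact congrArg (p.appTop).hom h5
  have hic : ∀ i, IsIntegrallyClosed Γ(X, (U i).1) := fun i =>
    have := hU i
    Ega3B.NormalBirational.isIntegrallyClosed_section hN _ (U i).2
  refine TrInt.exists_dvd (R := R) (R' := R') (L := X.functionField) (L' := C'.functionField) ?_ hn0
    ((cst f₁).comp (algebraMap R' K')) hδ (fun i => Γ(X, (U i).1))
    (fun i => germ (U i).1 (genericPoint X) (hgenU i)) ?_ (fun i => (ores le_top).comp (gb p)) ?_
    (fun i => F.a (U i)) t ?_ ?_
  · intro x hx
    obtain ⟨P, hP, hP'⟩ := hx
    obtain ⟨y, hy⟩ := exists_of_isIntegral hN (x := x) ⟨P.map (gb p), hP.map _, by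
      rw [Polynomial.eval₂_map]
      exact hP'⟩
    obtain ⟨z, rfl⟩ := hsurj y
    exact ⟨z, hy⟩
  · intro i
    have := hU i
    exact functionField_isFractionRing_of_isAffineOpen X (U i).1 (U i).2
  · intro i r
    exact germ_ores le_top _ (hgenU i) (gb p r)
  · intro h0
    have h1 : germ ⊤ (genericPoint X) trivial (gb p t) = 0 := h0
    exact Models.H67.NormFam.pt_ne_zero (gl_ne_zero p ht) (genericPoint X) h1
  · intro m hm
    have hmne : m ≠ ⊥ := by
      rintro rfl
      have h1 : ((⊥ : Ideal R').comap (algebraMap R R')).IsMaximal :=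
        Ideal.isMaximal_comap_of_isIntegral_of_isMaximal ⊥
      have h2 : Function.Injective (algebraMap R R') := by
        intro a b hab
        have h3 : algebraMap R K' a = algebraMap R K' b := congrArg (algebraMap R' K') hab
        exact (IsFractionRing.injective R (FractionRing R)) ((algebraMap (FractionRing R) K').injective h3)
      have h4 : (⊥ : Ideal R').comap (algebraMap R R') = ⊥ := by
        rw [eq_bot_iff]
        intro a ha
        exact h2 ((show algebraMap R R' a = 0 from ha).trans (map_zero _).symm)
      rw [h4] at h1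
      exact IsDiscreteValuationRing.not_isField R (Ring.isField_iff_maximal_bot.2 h1)
    have hle : m.primeCompl ≤ nonZeroDivisors R' := m.primeCompl_le_nonZeroDivisors
    let V := Localization.subalgebra.ofField K' m.primeCompl hle
    have hV : IsDiscreteValuationRing V :=
      IsLocalization.AtPrime.isDiscreteValuationRing_of_dedekind_domain R' hmne V
    obtain ⟨a, b, ha, hab⟩ := exists_local hg hc s' hs' (R' := R') (V := V) m.primeCompl
      ((algebraMap R' V).comp (algebraMap R R')) (fun r => rfl) U hgenU'
      (fun i r => hint i _ (hδ r)) ht F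
    refine ⟨a, b, ha, fun i => ?_⟩
    obtain ⟨θ, h1, h2⟩ := hab i
    refine ⟨θ, ?_, ?_⟩
    · have h3 : (algebraMap X.functionField C'.functionField).comp
          (germ (U i).1 (genericPoint X) (hgenU i)) = val (c ≫ g) (U i).1 (hgenU' i) := by
        ext x
        exact hκ (U i).1 (hgenU' i) (hgenU i) x
      rw [h3]
      exact h1
    · have h4 : algebraMap X.functionField C'.functionField
          (germ (U i).1 (genericPoint X) (hgenU i) (F.a (U i))) =
          val (c ≫ g) (U i).1 (hgenU' i) (F.a (U i)) := hκ (U i).1 (hgenU' i) (hgenU i) _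
      rw [hRL', h2, h4]
      rfl

end K380.CharZeroFlat
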