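import Groth.Prelude.Def_Curv2
import Groth.Agent.Models.K380.Bir
import Groth.Agent.S0034
import Groth.Agent.Fga.HShift
import Groth.Agent.CurvesA.HHMap
import Groth.Agent.CohqB.LocBaseRed
import Groth.Agent.CurvesB.UnitCoh

/-!
# `R^1 ρ_* O = 0` for a proper birational morphism onto a normal scheme with rational singularities at its closed
points
-/

set_option autoImplicit false
universe u

open CategoryTheory CategoryTheory.Limits AlgebraicGeometry TopologicalSpace

namespace K380.R1Zero

open Groth.Agent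

/-- flat base change of the vanishing of `H^p(O)`. -/
theorem subsingleton_of_isPullback {A B : Type u} [CommRing A] [CommRing B] [Algebra A B] [Module.Flat A B]
    {Z Z' : Scheme.{u}} (r : Z ⟶ Spec (CommRingCat.of A)) (r' : Z' ⟶ Spec (CommRingCat.of B)) (g' : Z' ⟶ Z)
    (H : IsPullback g' r' r (Spec.map (CommRingCat.ofHom (algebraMap A B)))) [QuasiCompact r] [QuasiSeparated r]
    (p : ℕ) (h : Subsingleton (Coh.HH Z (Coh.structureModule Z) p)) :
    Subsingleton (Coh.HH Z' (Coh.structureModule Z') p) := by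
  let _ : Z.Over (Spec (CommRingCat.of A)) := ⟨r⟩
  let _ : Z'.Over (Spec (CommRingCat.of B)) := ⟨r'⟩
  have h1 : CompactSpace Z := QuasiCompact.compactSpace_of_compactSpace r
  have h2 : QuasiSeparatedSpace Z := (quasiSeparated_iff_quasiSeparatedSpace r).mp inferInstance
  have hq : Coh.IsQCoh (Coh.structureModule Z) := (CurvesB.UnitCoh.isCoh_structureModule Z).1
  obtain ⟨e⟩ := S0034.result A B Z Z' g' H (Coh.structureModule Z) p
  have h3 : Subsingleton (TensorProduct A B (Coh.HH Z (Coh.structureModule Z) p)) := inferInstance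
  exact Fga.HShift.subsingleton_of_iso (CurvesA.HHMap.pullbackUnit g') p e.symm.toEquiv.subsingleton

theorem flat_fromSpecStalk {Y : Scheme.{u}} (y : Y) : Flat (Y.fromSpecStalk y) := by
  let U : Y.Opens := (Y.affineCover.f (Y.affineCover.idx y)).opensRange
  have hU : IsAffineOpen U := isAffineOpen_opensRange _
  have hy : y ∈ U := Y.affineCover.covers y
  have e : Y.fromSpecStalk y = Spec.map (Y.presheaf.germ U y hy) ≫ hU.fromSpec := rfl
  rw [e]
  have h1 : Flat (Spec.map (Y.presheaf.germ U y hy)) := by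
    rw [Flat.SpecMap_iff]
    let _ : Algebra Γ(Y, U) (Y.presheaf.stalk y) := (Y.presheaf.germ U y hy).hom.toAlgebra
    have := hU.isLocalization_stalk ⟨y, hy⟩
    exact IsLocalization.flat (Y.presheaf.stalk y) (hU.primeIdealOf ⟨y, hy⟩).asIdeal.primeCompl
  infer_instance

theorem flat_of_comp_mono {X Y Z : Scheme.{u}} (f : X ⟶ Y) (g : Y ⟶ Z) [Mono g] [Flat (f ≫ g)] : Flat f := by
  have : f = inv (pullback.fst (f ≫ g) g) ≫ pullback.snd (f ≫ g) g := by
    rw [IsIso.eq_inv_comp, ← cancel_mono g, Category.assoc, pullback.condition]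
  rw [this]
  infer_instance

theorem flat_stalkSpecializes {Y : Scheme.{u}} {y z : Y} (h : z ⤳ y) :
    (Y.presheaf.stalkSpecializes h).hom.Flat := by
  have h1 : Flat (Spec.map (Y.presheaf.stalkSpecializes h) ≫ Y.fromSpecStalk y) := by
    rw [Scheme.SpecMap_stalkSpecializes_fromSpecStalk]
    exact flat_fromSpecStalk z
  rw [← Flat.SpecMap_iff]
  exact flat_of_comp_mono _ (Y.fromSpecStalk y)

variable {X Y : Scheme.{u}} [IsIntegral X] [IsIntegral Y] (f : X ⟶ Y) [IsProper f]

/-- Vanishing over the local scheme at a point with a rational singularity. -/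
theorem subsingleton_local (hX : Pi1.IsNormalScheme X) (U : Y.Opens) (hU : (U : Set Y).Nonempty)
    (h : IsIso (f ∣_ U)) (y : Y) (hy : Curv2.IsRationalSing (Y.presheaf.stalk y)) :
    Subsingleton (Coh.HH (pullback f (Y.fromSpecStalk y))
      (Coh.structureModule (pullback f (Y.fromSpecStalk y))) 1) :=
  hy _ (pullback.snd f (Y.fromSpecStalk y)) inferInstance
    (Bir.isIntegral_pullback f y (Bir.gen f U hU h)) (Bir.isNormal_pullback f y hX)
    (Bir.exists_open_pullback f y U hU h)

/-- Vanishing over the local scheme at a generization of a point with a rational singularity. -/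
theorem subsingleton_local_of_specializes (hX : Pi1.IsNormalScheme X) (U : Y.Opens) (hU : (U : Set Y).Nonempty)
    (h : IsIso (f ∣_ U)) (y z : Y) (hzy : z ⤳ y) (hy : Curv2.IsRationalSing (Y.presheaf.stalk y)) :
    Subsingleton (Coh.HH (pullback f (Y.fromSpecStalk z))
      (Coh.structureModule (pullback f (Y.fromSpecStalk z))) 1) := by
  let t : Spec (Y.presheaf.stalk z) ⟶ Spec (Y.presheaf.stalk y) := Spec.map (Y.presheaf.stalkSpecializes hzy)
  have ht : t ≫ Y.fromSpecStalk y = Y.fromSpecStalk z := Scheme.SpecMap_stalkSpecializes_fromSpecStalk hzy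
  have hflat : (Y.presheaf.stalkSpecializes hzy).hom.Flat := flat_stalkSpecializes hzy
  let _ : Algebra (Y.presheaf.stalk y) (Y.presheaf.stalk z) := (Y.presheaf.stalkSpecializes hzy).hom.toAlgebra
  have _ : Module.Flat (Y.presheaf.stalk y) (Y.presheaf.stalk z) := hflat
  have H1 : IsPullback (pullback.fst f (Y.fromSpecStalk y)) (pullback.snd f (Y.fromSpecStalk y)) f
      (Y.fromSpecStalk y) := IsPullback.of_hasPullback _ _
  have H2 : IsPullback (pullback.fst f (Y.fromSpecStalk z)) (pullback.snd f (Y.fromSpecStalk z)) f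
      (Y.fromSpecStalk z) := IsPullback.of_hasPullback _ _
  have w : pullback.fst f (Y.fromSpecStalk z) ≫ f = (pullback.snd f (Y.fromSpecStalk z) ≫ t) ≫ Y.fromSpecStalk y := by
    rw [Category.assoc, ht, pullback.condition]
  have H3 : IsPullback (H1.lift _ _ w) (pullback.snd f (Y.fromSpecStalk z)) (pullback.snd f (Y.fromSpecStalk y)) t := by
    refine IsPullback.of_right ?_ (H1.lift_snd _ _ w) H1
    rw [H1.lift_fst, ht]
    exact H2
  exact subsingleton_of_isPullback (A := Y.presheaf.stalk y) (B := Y.presheaf.stalk z) _ _ _ H3 1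
    (subsingleton_local f hX U hU h y hy)

omit [IsIntegral X] [IsIntegral Y] [IsProper f] in
/-- A sheaf all of whose stalks vanish is zero. -/
theorem isZero_of_stalk (F : TopCat.Sheaf AddCommGrpCat.{u} Y.toTopCat)
    (h : ∀ y : Y, IsZero (TopCat.Presheaf.stalk F.obj y)) : IsZero F := by
  have key : ∀ (U : Opens Y) (s : F.obj.obj (Opposite.op U)), s = 0 := by
    intro U s
    refine TopCat.Presheaf.section_ext F U s 0 fun x hx => ?_
    have h1 : Subsingleton (F.presheaf.stalk x) := AddCommGrpCat.subsingleton_of_isZero (h x)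
    exact Subsingleton.elim _ _
  rw [IsZero.iff_id_eq_zero]
  refine Sheaf.hom_ext ?_
  refine NatTrans.ext (funext fun U => ?_)
  refine AddCommGrpCat.hom_ext (AddMonoidHom.ext fun s => ?_)
  exact (key _ _).trans (key _ _).symm

/-- **Vanishing of `R^1 f_* O_X`** for a proper birational morphism from a normal scheme, if the local rings of the
target at the closed points are rational singularities. -/
theorem isZero_R1 (hX : Pi1.IsNormalScheme X) (U : Y.Opens) (hU : (U : Set Y).Nonempty)
    (h : IsIso (f ∣_ U)) [CompactSpace Y]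
    (hy : ∀ y : Y, IsClosed ({y} : Set Y) → Curv2.IsRationalSing (Y.presheaf.stalk y)) :
    IsZero ((Coh.RpushAb f 1).obj (Coh.toAb (Coh.structureModule X))) := by
  refine isZero_of_stalk _ fun z => ?_
  obtain ⟨y, hyc, hzy⟩ : ∃ y : Y, IsClosed ({y} : Set Y) ∧ z ⤳ y := by
    obtain ⟨y, hy1, hy2⟩ := IsClosed.exists_closed_singleton (S := closure {z}) isClosed_closure
      ⟨z, subset_closure rfl⟩
    exact ⟨y, hy2, specializes_iff_mem_closure.2 hy1⟩
  have h1 := subsingleton_local_of_specializes f hX U hU h y z hzy (hy y hyc)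
  exact CohqB.LocBaseRed.isZero_stalk_of_local f z (Coh.structureModule X)
    (CurvesB.UnitCoh.isCoh_structureModule X).1 1 _ _ (IsPullback.of_hasPullback f (Y.fromSpecStalk z))
    (Fga.HShift.subsingleton_of_iso (CurvesA.HHMap.pullbackUnit (pullback.fst f (Y.fromSpecStalk z))).symm 1 h1)

end K380.R1Zero
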