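import Groth.Agent.Models.K380.CohFlat
import Groth.Agent.Models.K380.R1Zero
import Mathlib.RingTheory.Unramified.LocalRing

/-!
# Cohomological flatness under unramified flat base change of discrete valuation rings
-/

set_option autoImplicit false
universe u

open CategoryTheory CategoryTheory.Limits AlgebraicGeometry Opposite TopologicalSpace TensorProduct

namespace K380.CohBC

open Groth.Agent

/-- Injectivity of multiplication by an element of the base after a flat base change. -/
theorem smul_injective_tensor {A B M : Type u} [CommRing A] [CommRing B] [Algebra A B] [Module.Flat A B]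
    [AddCommGroup M] [Module A M] (a : A) (h : ∀ x : M, a • x = 0 → x = 0) (y : TensorProduct A B M)
    (hy : algebraMap A B a • y = 0) : y = 0 := by
  have h1 : Function.Injective (LinearMap.lsmul A M a) := by
    rw [injective_iff_map_eq_zero]
    exact fun x hx => h x hx
  have h2 := Module.Flat.lTensor_preserves_injective_linearMap (M := B) (LinearMap.lsmul A M a) h1
  apply h2
  rw [map_zero]
  have h3 : (LinearMap.lTensor B (LinearMap.lsmul A M a)) = LinearMap.lsmul A (TensorProduct A B M) a := by
    refine TensorProduct.ext' fun b m => ?_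
    simp [TensorProduct.tmul_smul]
  rw [h3]
  change a • y = 0
  rw [← algebraMap_smul B a y]
  exact hy

variable (R R' : Type u) [CommRing R] [IsDomain R] [IsDiscreteValuationRing R] [CommRing R'] [IsDomain R']
  [IsDiscreteValuationRing R'] [Algebra R R'] [Module.Flat R R']

theorem surjective_of_isPullback
    (hmax : (IsLocalRing.maximalIdeal R).map (algebraMap R R') = IsLocalRing.maximalIdeal R')
    (X X' : Scheme.{u}) [X.Over (Spec (CommRingCat.of R))] [X'.Over (Spec (CommRingCat.of R'))]
    [Flat (X ↘ Spec (CommRingCat.of R))] [QuasiCompact (X ↘ Spec (CommRingCat.of R))]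
    [QuasiSeparated (X ↘ Spec (CommRingCat.of R))] (g' : X' ⟶ X)
    (H : IsPullback g' (X' ↘ Spec (CommRingCat.of R')) (X ↘ Spec (CommRingCat.of R))
      (Spec.map (CommRingCat.ofHom (algebraMap R R'))))
    (h : Function.Surjective (Sheaf.H.map ((SheafOfModules.toSheaf X.ringCatSheaf).map
      (ClSub.toSubscheme (Models.specialFibreIdeal R (Over.mk (X ↘ Spec (CommRingCat.of R)))))) 0)) :
    Function.Surjective (Sheaf.H.map ((SheafOfModules.toSheaf X'.ringCatSheaf).map
      (ClSub.toSubscheme (Models.specialFibreIdeal R' (Over.mk (X' ↘ Spec (CommRingCat.of R')))))) 0) := by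
  obtain ⟨ϖ, hϖ⟩ := IsDiscreteValuationRing.exists_irreducible R
  have hϖ' : Irreducible (algebraMap R R' ϖ) := by
    rw [IsDiscreteValuationRing.irreducible_iff_uniformizer, ← hmax, hϖ.maximalIdeal_eq, Ideal.map_span,
      Set.image_singleton]
  have hfl : Flat (X' ↘ Spec (CommRingCat.of R')) := MorphismProperty.of_isPullback H inferInstance
  rw [CohFlat.surjective_iff R X hϖ] at h
  rw [CohFlat.surjective_iff R' X' hϖ']
  have h1 : CompactSpace X := QuasiCompact.compactSpace_of_compactSpace (X ↘ Spec (CommRingCat.of R))
  have h2 : QuasiSeparatedSpace X := (quasiSeparated_iff_quasiSeparatedSpace (X ↘ Spec (CommRingCat.of R))).mp inferInstance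
  have hq : Coh.IsQCoh (Coh.structureModule X) := (CurvesB.UnitCoh.isCoh_structureModule X).1
  obtain ⟨e⟩ := S0034.result R R' X X' g' H (Coh.structureModule X) 1
  let e' : TensorProduct R R' (Coh.HH X (Coh.structureModule X) 1) ≃ₗ[R'] Coh.HH X' (Coh.structureModule X') 1 :=
    e.trans (CurvesA.HHMap.equivOver R' (CurvesA.HHMap.pullbackUnit g') 1)
  intro x hx
  have h3 : algebraMap R R' ϖ • e'.symm x = 0 := by
    rw [← map_smul, hx, map_zero]
  have h4 := smul_injective_tensor ϖ h (e'.symm x) h3
  simpa using h4

end K380.CohBC
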