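import Groth.Agent.Models3.H44.EulerInv

/-!
# Cohomological flatness in dimension zero over a discrete valuation ring

`X` flat over the discrete valuation ring `R`: the restriction `H⁰(X, O_X) → H⁰(X_s, O_{X_s})` is surjective
if and only if `H¹(X, O_X)` has no `R`-torsion.
-/

set_option autoImplicit false
universe u

open CategoryTheory CategoryTheory.Limits AlgebraicGeometry Opposite TopologicalSpace

namespace K380.CohFlat

open Groth.Agent.Ega3B.HLes Groth.Agent.Fdesc.LocGen Groth.Agent.Models3.H44.EulerInv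

variable (R : Type u) [CommRing R] [IsDomain R] [IsDiscreteValuationRing R]

/-- A module over a discrete valuation ring on which a uniformiser acts injectively is torsion free. -/
theorem noZeroSMulDivisors_iff {ϖ : R} (hϖ : Irreducible ϖ) (M : Type u) [AddCommGroup M] [Module R M] :
    NoZeroSMulDivisors R M ↔ ∀ x : M, ϖ • x = 0 → x = 0 := by
  constructor
  · intro h x hx
    exact (h.eq_zero_or_eq_zero_of_smul_eq_zero hx).resolve_left hϖ.ne_zero
  · intro h
    constructor
    intro r x hrx
    by_contra hne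
    push Not at hne
    obtain ⟨hr, hx⟩ := hne
    obtain ⟨n, u, rfl⟩ := IsDiscreteValuationRing.eq_unit_mul_pow_irreducible hr hϖ
    rw [mul_smul] at hrx
    have h1 : ϖ ^ n • x = 0 := by
      have := congrArg (fun y => (↑(u⁻¹) : R) • y) hrx
      simpa [smul_smul] using this
    have h2 : ∀ (m : ℕ) (y : M), ϖ ^ m • y = 0 → y = 0 := by
      intro m
      induction m with
      | zero => intro y hy; simpa using hy
      | succ m ih => intro y hy; rw [pow_succ, mul_smul] at hy; exact h _ (ih _ hy)
    exact hx (h2 n x h1)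

/-- The restriction of functions to the closed fibre is surjective iff a uniformiser acts injectively on
`H¹(X, O_X)`. -/
theorem surjective_iff (X : Scheme.{u}) [X.Over (Spec (CommRingCat.of R))]
    [Flat (X ↘ Spec (CommRingCat.of R))] {ϖ : R} (hϖ : Irreducible ϖ) :
    Function.Surjective (Sheaf.H.map ((SheafOfModules.toSheaf X.ringCatSheaf).map
      (ClSub.toSubscheme (Models.specialFibreIdeal R (Over.mk (X ↘ Spec (CommRingCat.of R)))))) 0) ↔
      ∀ x : Coh.HH X (Coh.structureModule X) 1, ϖ • x = 0 → x = 0 := by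
  obtain ⟨w, hS⟩ := exists_shortExact (genOn_specialFibreIdeal (X ↘ Spec (CommRingCat.of R)) hϖ)
  have hT := shortExact_abShort hS
  have h1 := ab_exact₃ hT 0
  have h2 := ab_exact₁ hT 0
  have hm : ∀ x : Coh.HH X (Coh.structureModule X) 1,
      Sheaf.H.map (abShort (ShortComplex.mk _ _ w)).f 1 x = ϖ • x := by
    intro x
    change Sheaf.H.map (toAbMap (mulHom (glob R (X ↘ Spec (CommRingCat.of R)) ϖ))) 1 x = ϖ • x
    rw [toAbMap_mulHom]
    rfl
  constructor
  · intro hsurj x hx
    have h3 : Sheaf.H.map (abShort (ShortComplex.mk _ _ w)).f 1 x = 0 := by rw [hm, hx]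
    obtain ⟨y, rfl⟩ := (h2 x).1 h3
    obtain ⟨z, rfl⟩ := hsurj y
    exact (h1 _).2 ⟨z, rfl⟩
  · intro h y
    have h4 : δab hT 0 y = 0 := by
      apply h
      rw [← hm]
      exact (h2 _).2 ⟨y, rfl⟩
    exact (h1 y).1 h4

theorem main (X : Scheme.{u}) [X.Over (Spec (CommRingCat.of R))]
    [Flat (X ↘ Spec (CommRingCat.of R))] :
    Function.Surjective (Sheaf.H.map ((SheafOfModules.toSheaf X.ringCatSheaf).map
      (ClSub.toSubscheme (Models.specialFibreIdeal R (Over.mk (X ↘ Spec (CommRingCat.of R)))))) 0) ↔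
      NoZeroSMulDivisors R (Coh.HH X (Coh.structureModule X) 1) := by
  obtain ⟨ϖ, hϖ⟩ := IsDiscreteValuationRing.exists_irreducible R
  rw [surjective_iff R X hϖ, noZeroSMulDivisors_iff R hϖ]

end K380.CohFlat
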