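import Groth.Agent.Models.K380.EtBC
import Groth.Agent.S0120

/-!
# Essentially étale morphisms: flat monomorphisms followed by étale morphisms
-/

set_option autoImplicit false

universe u

open CategoryTheory CategoryTheory.Limits AlgebraicGeometry IsLocalRing

namespace K380.EssEt

open Groth.Agent

/-- A flat monomorphism followed by an étale morphism. -/
def EssEt {X' X : Scheme.{u}} (g : X' ⟶ X) : Prop :=
  ∃ (X₁ : Scheme.{u}) (e : X₁ ⟶ X) (m : X' ⟶ X₁), AlgebraicGeometry.Etale e ∧ Flat m ∧ Mono m ∧ m ≫ e = g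

theorem EssEt.flat {X' X : Scheme.{u}} {g : X' ⟶ X} (h : EssEt g) : Flat g := by
  obtain ⟨X₁, e, m, h1, h2, h3, rfl⟩ := h
  infer_instance

theorem EssEt.of_isPullback {Z Z' X X' : Scheme.{u}} {g' : Z' ⟶ Z} {q' : Z' ⟶ X'} {q : Z ⟶ X} {g : X' ⟶ X}
    (H : IsPullback g' q' q g) (h : EssEt g) : EssEt g' := by
  obtain ⟨X₁, e, m, h1, h2, h3, rfl⟩ := h
  have H1 := IsPullback.of_hasPullback q e
  have hw : g' ≫ q = (q' ≫ m) ≫ e := by rw [Category.assoc]; exact H.w
  have H2 : IsPullback (H1.lift g' (q' ≫ m) hw) q' (pullback.snd q e) m := by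
    refine IsPullback.of_right ?_ (H1.lift_snd _ _ _) H1
    rw [H1.lift_fst]
    exact H
  have h4 : Flat (H1.lift g' (q' ≫ m) hw) := MorphismProperty.of_isPullback H2.flip h2
  have h5 : Mono (H1.lift g' (q' ≫ m) hw) :=
    MorphismProperty.of_isPullback (P := MorphismProperty.monomorphisms _) H2.flip
      (MorphismProperty.monomorphisms.infer_property _)
  exact ⟨_, pullback.fst q e, _, inferInstance, h4, h5, H1.lift_fst _ _ _⟩

theorem EssEt.exists_stalk {X X' : Scheme.{u}} {g : X' ⟶ X} (h : EssEt g) (x' : X') :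
    ∃ (X₁ : Scheme.{u}) (e : X₁ ⟶ X) (x₁ : X₁), AlgebraicGeometry.Etale e ∧ e x₁ = g x' ∧
      Nonempty (X₁.presheaf.stalk x₁ ≃+* X'.presheaf.stalk x') := by
  obtain ⟨X₁, e, m, he, hfl, hm, hme⟩ := h
  refine ⟨X₁, e, m x', he, ?_, ?_⟩
  · rw [← Scheme.Hom.comp_apply, hme]
  · have := Groth.Agent.Flat2E.GenericFibre.isIso_stalkMap_of_flat_mono m x'
    exact ⟨(asIso (m.stalkMap x')).commRingCatIsoToRingEquiv⟩

theorem EssEt.normal_stalk {X X' : Scheme.{u}} [IsLocallyNoetherian X] {g : X' ⟶ X} (H : EssEt g) (x' : X')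
    (h : IsDomain (X.presheaf.stalk (g x')) ∧ IsIntegrallyClosed (X.presheaf.stalk (g x'))) :
    IsDomain (X'.presheaf.stalk x') ∧ IsIntegrallyClosed (X'.presheaf.stalk x') := by
  obtain ⟨X₁, e, x₁, he, hex, ⟨ε⟩⟩ := H.exists_stalk x'
  rw [← hex] at h
  obtain ⟨h1, h2⟩ := (S0066.result e x₁).mpr h
  exact ⟨MulEquiv.isDomain _ ε.symm.toMulEquiv, IsIntegrallyClosed.of_equiv ε⟩

theorem EssEt.regular_stalk {X X' : Scheme.{u}} [IsLocallyNoetherian X] {g : X' ⟶ X} (H : EssEt g) (x' : X')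
    (h : IsRegularLocalRing (X.presheaf.stalk (g x'))) :
    IsRegularLocalRing (X'.presheaf.stalk x') := by
  obtain ⟨X₁, e, x₁, he, hex, ⟨ε⟩⟩ := H.exists_stalk x'
  rw [← hex] at h
  have h1 := (S0065.result e x₁).mpr h
  exact IsRegularLocalRing.of_ringEquiv ε

theorem EssEt.ringKrullDim_stalk {X X' : Scheme.{u}} [IsLocallyNoetherian X] {g : X' ⟶ X} (H : EssEt g) (x' : X') :
    ringKrullDim (X'.presheaf.stalk x') = ringKrullDim (X.presheaf.stalk (g x')) := by
  obtain ⟨X₁, e, x₁, he, hex, ⟨ε⟩⟩ := H.exists_stalk x'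
  rw [← hex, ← ringKrullDim_eq_of_ringEquiv ε]
  exact S0120.result e x₁

theorem flat_of_comp_mono {X Y Z : Scheme.{u}} (f : X ⟶ Y) (g : Y ⟶ Z) [Mono g] [Flat (f ≫ g)] : Flat f := by
  have : f = inv (pullback.fst (f ≫ g) g) ≫ pullback.snd (f ≫ g) g := by
    rw [IsIso.eq_inv_comp, ← cancel_mono g, Category.assoc, pullback.condition]
  rw [this]
  infer_instance

/-- The map of local schemes of an essentially étale morphism is essentially étale. -/
theorem EssEt.spec_stalk {X X' : Scheme.{u}} {g : X' ⟶ X} (H : EssEt g) (x' : X') :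
    EssEt (Spec.map (g.stalkMap x')) := by
  obtain ⟨X₁, e, m, h1, h2, h3, rfl⟩ := H
  let A := X.presheaf.stalk ((m ≫ e) x')
  let l : Spec (X'.presheaf.stalk x') ⟶ pullback e (X.fromSpecStalk ((m ≫ e) x')) :=
    pullback.lift (X'.fromSpecStalk x' ≫ m) (Spec.map ((m ≫ e).stalkMap x')) (by
      rw [Scheme.SpecMap_stalkMap_fromSpecStalk, Category.assoc])
  have hl : l ≫ pullback.fst e (X.fromSpecStalk ((m ≫ e) x')) = X'.fromSpecStalk x' ≫ m := pullback.lift_fst _ _ _
  have h4 : Flat (X'.fromSpecStalk x') := Groth.Agent.Flat2E.GenericFibre.flat_fromSpecStalk X' x'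
  have h5 : Flat (l ≫ pullback.fst e (X.fromSpecStalk ((m ≫ e) x'))) := by
    rw [hl]; infer_instance
  have h6 : Mono (l ≫ pullback.fst e (X.fromSpecStalk ((m ≫ e) x'))) := by
    rw [hl]; infer_instance
  have h7 : Mono (pullback.fst e (X.fromSpecStalk ((m ≫ e) x'))) := inferInstance
  have h8 : Flat l := flat_of_comp_mono l (pullback.fst e (X.fromSpecStalk ((m ≫ e) x')))
  have h9 : Mono l := mono_of_mono _ (pullback.fst e (X.fromSpecStalk ((m ≫ e) x')))
  exact ⟨_, pullback.snd _ _, l, inferInstance, h8, h9, pullback.lift_snd _ _ _⟩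

section

variable {R R' : Type u} [CommRing R] [IsNoetherianRing R] [CommRing R'] [IsLocalRing R'] [Algebra R R']
  [Algebra.EssFiniteType R R'] [Algebra.FormallyEtale R R']

theorem of_formallyEtale : EssEt (Spec.map (CommRingCat.ofHom (algebraMap R R'))) := by
  have H : IsPullback (Spec.map (CommRingCat.ofHom (algebraMap R R'))) (𝟙 _) (𝟙 _)
      (Spec.map (CommRingCat.ofHom (algebraMap R R'))) := IsPullback.of_vert_isIso (by simp)
  exact EtBC.exists_factor H

end

end K380.EssEt
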