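import Groth.Agent.S0065
import Groth.Agent.S0066
import Groth.Agent.Flat2E.GenericFibre
import Mathlib.RingTheory.EssentialFiniteness
import Mathlib.RingTheory.Unramified.LocalRing
import Mathlib.RingTheory.Unramified.LocalStructure
import Mathlib.RingTheory.Finiteness.NilpotentKer
import Mathlib.RingTheory.Etale.Locus

/-!
# Base change along essentially étale local algebras
-/

set_option autoImplicit false

universe u

open CategoryTheory CategoryTheory.Limits AlgebraicGeometry IsLocalRing

namespace K380.EtBC

open Groth.Agent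

/-- A local ring essentially of finite type is a localization of a finite type subalgebra at a
prime. -/
theorem exists_model (A B : Type u) [CommRing A] [CommRing B] [Algebra A B]
    [Algebra.EssFiniteType A B] [IsLocalRing B] :
    ∃ (S : Subalgebra A B) (q : Ideal S) (_ : q.IsPrime), Algebra.FiniteType A S ∧
      q = (maximalIdeal B).comap (algebraMap S B) ∧ IsLocalization.AtPrime B q := by
  let S := Algebra.EssFiniteType.subalgebra A B
  have hS : Algebra.FiniteType A S := inferInstance
  let q : Ideal S := (maximalIdeal B).comap (algebraMap S B)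
  have hq : q.IsPrime := inferInstance
  have h : IsLocalization (Algebra.EssFiniteType.submonoid A B) B := inferInstance
  have h2 : (Algebra.EssFiniteType.submonoid A B) = q.primeCompl := by
    ext x
    change IsUnit (algebraMap S B x) ↔ x ∉ q
    rw [Ideal.mem_comap, IsLocalRing.mem_maximalIdeal, mem_nonunits_iff, not_not]
  refine ⟨S, q, hq, hS, rfl, ?_⟩
  rw [h2] at h
  exact h

/-- A local algebra `B` essentially of finite type and formally étale over a Noetherian ring `A` is
a localization of an étale algebra. -/
theorem exists_etale_model (A B : Type u) [CommRing A] [IsNoetherianRing A] [CommRing B]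
    [Algebra A B] [Algebra.EssFiniteType A B] [IsLocalRing B] [Algebra.FormallyEtale A B] :
    ∃ (S : Type u) (_ : CommRing S) (_ : Algebra A S) (_ : Algebra S B) (_ : IsScalarTower A S B)
      (q : Ideal S) (_ : q.IsPrime), Algebra.Etale A S ∧ IsLocalization.AtPrime B q := by
  obtain ⟨S, q, hq, hS, -, hloc⟩ := exists_model A B
  have hfp : Algebra.FinitePresentation A S :=
    Algebra.FinitePresentation.of_finiteType.mp inferInstance
  let e : B ≃ₐ[S] Localization.AtPrime q := IsLocalization.algEquiv q.primeCompl _ _
  have het : Algebra.IsEtaleAt A q := Algebra.FormallyEtale.of_equiv (e.restrictScalars A)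
  obtain ⟨f, hf, hft⟩ := Algebra.exists_etale_of_isEtaleAt (R := A) q
  let g : Localization.Away f →ₐ[S] B :=
    IsLocalization.Away.liftAlgHom (f := Algebra.ofId S B) f
      (IsLocalization.map_units B (⟨f, hf⟩ : q.primeCompl))
  let _ : Algebra (Localization.Away f) B := g.toRingHom.toAlgebra
  have h1 : IsScalarTower S (Localization.Away f) B := .of_algebraMap_eq' g.comp_algebraMap.symm
  have h2 : IsScalarTower A (Localization.Away f) B := by
    refine .of_algebraMap_eq fun a => ?_
    rw [IsScalarTower.algebraMap_apply A S (Localization.Away f),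
      ← IsScalarTower.algebraMap_apply S (Localization.Away f) B,
      ← IsScalarTower.algebraMap_apply A S B]
  let Q : Ideal (Localization.Away f) := (maximalIdeal B).comap (algebraMap (Localization.Away f) B)
  have hQ : Q.IsPrime := inferInstance
  have hM : Submonoid.powers f ≤ q.primeCompl := by
    rw [Submonoid.powers_le]
    exact hf
  have h3 : IsLocalization.AtPrime B Q := by
    have := IsLocalization.isLocalization_of_submonoid_le (Localization.Away f) B
      (Submonoid.powers f) q.primeCompl hM
    refine IsLocalization.of_le_of_exists_dvd (M := q.primeCompl.map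
      (algebraMap S (Localization.Away f))) (S := B) Q.primeCompl ?_ ?_
    · rintro _ ⟨s, hs, rfl⟩ hmem
      have h4 : algebraMap S B s ∈ maximalIdeal B := by
        rw [IsScalarTower.algebraMap_apply S (Localization.Away f) B]
        exact hmem
      exact ((IsLocalRing.mem_maximalIdeal _).mp h4)
        (IsLocalization.map_units B (⟨s, hs⟩ : q.primeCompl))
    · intro x hx
      obtain ⟨⟨s, t⟩, hst⟩ := IsLocalization.surj (Submonoid.powers f) x
      refine ⟨algebraMap S _ s, ⟨s, ?_, rfl⟩, ?_⟩
      · intro hs
        apply hx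
        have h5 : algebraMap S B s ∈ maximalIdeal B := by
          rw [← IsLocalization.AtPrime.map_eq_maximalIdeal q B]
          exact Ideal.mem_map_of_mem _ hs
        change algebraMap _ B x ∈ maximalIdeal B
        have h6 := congrArg (algebraMap (Localization.Away f) B) hst
        rw [map_mul, ← IsScalarTower.algebraMap_apply S (Localization.Away f) B,
          ← IsScalarTower.algebraMap_apply S (Localization.Away f) B] at h6
        rw [← h6] at h5
        have hu : IsUnit (algebraMap S B t) :=
          IsLocalization.map_units B (⟨t, hM t.2⟩ : q.primeCompl)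
        exact ((maximalIdeal.isMaximal B).isPrime.mem_or_mem h5).resolve_right fun h =>
          ((IsLocalRing.mem_maximalIdeal _).mp h) hu
      · exact ⟨algebraMap S _ t, hst.symm⟩
  exact ⟨Localization.Away f, inferInstance, inferInstance, inferInstance, h2, Q, hQ, hft, h3⟩

theorem flat_of_formallyEtale (A B : Type u) [CommRing A] [IsNoetherianRing A] [CommRing B]
    [Algebra A B] [Algebra.EssFiniteType A B] [IsLocalRing B] [Algebra.FormallyEtale A B] :
    Module.Flat A B := by
  obtain ⟨S, _, _, _, _, q, _, _, hloc⟩ := exists_etale_model A B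
  have h1 : Module.Flat A S := inferInstance
  have h2 : Module.Flat S B := IsLocalization.flat B q.primeCompl
  exact Module.Flat.trans A S B

section

variable {R R' : Type u} [CommRing R] [IsNoetherianRing R] [CommRing R'] [IsLocalRing R'] [Algebra R R']
  [Algebra.EssFiniteType R R'] [Algebra.FormallyEtale R R']

/-- The base change along an essentially étale local algebra is a flat monomorphism followed by an étale
morphism. -/
theorem exists_factor {X X' : Scheme.{u}} {p : X ⟶ Spec (CommRingCat.of R)} {g' : X' ⟶ X}
    {p' : X' ⟶ Spec (CommRingCat.of R')}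
    (H : IsPullback g' p' p (Spec.map (CommRingCat.ofHom (algebraMap R R')))) :
    ∃ (X₁ : Scheme.{u}) (e : X₁ ⟶ X) (m : X' ⟶ X₁), AlgebraicGeometry.Etale e ∧ Flat m ∧ Mono m ∧ m ≫ e = g' := by
  obtain ⟨S, _, _, _, _, q, _, hS, hloc⟩ := exists_etale_model R R'
  have hcomp : Spec.map (CommRingCat.ofHom (algebraMap S R')) ≫ Spec.map (CommRingCat.ofHom (algebraMap R S)) =
      Spec.map (CommRingCat.ofHom (algebraMap R R')) := by
    rw [← Spec.map_comp, ← CommRingCat.ofHom_comp, ← IsScalarTower.algebraMap_eq R S R']
  have he : AlgebraicGeometry.Etale (Spec.map (CommRingCat.ofHom (algebraMap R S))) :=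
    HasRingHomProperty.Spec_iff.mpr (by
      rw [CommRingCat.hom_ofHom]
      exact RingHom.etale_algebraMap.mpr hS)
  have hfl : Flat (Spec.map (CommRingCat.ofHom (algebraMap S R'))) := by
    rw [Flat.SpecMap_iff, CommRingCat.hom_ofHom]
    exact RingHom.flat_algebraMap_iff.mpr (IsLocalization.flat R' q.primeCompl)
  have hm : Mono (Spec.map (CommRingCat.ofHom (algebraMap S R'))) := by
    have := IsPreimmersion.of_isLocalization (S := R') q.primeCompl
    infer_instance
  let m : X' ⟶ pullback p (Spec.map (CommRingCat.ofHom (algebraMap R S))) :=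
    pullback.lift g' (p' ≫ Spec.map (CommRingCat.ofHom (algebraMap S R'))) (by
      rw [Category.assoc, hcomp]
      exact H.w)
  have Hm : IsPullback m p' (pullback.snd p (Spec.map (CommRingCat.ofHom (algebraMap R S))))
      (Spec.map (CommRingCat.ofHom (algebraMap S R'))) := by
    refine IsPullback.of_right ?_ (pullback.lift_snd _ _ _) (IsPullback.of_hasPullback p (Spec.map (CommRingCat.ofHom (algebraMap R S)))).flip.flip
    rw [hcomp, pullback.lift_fst]
    exact H
  have h1 : Flat m := MorphismProperty.of_isPullback Hm.flip hfl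
  have h2 : Mono m := by
    have := MorphismProperty.of_isPullback (P := MorphismProperty.monomorphisms _) Hm.flip
      (MorphismProperty.monomorphisms.infer_property _)
    exact this
  exact ⟨_, pullback.fst _ _, m, inferInstance, h1, h2, pullback.lift_fst _ _ _⟩

theorem exists_stalk {X X' : Scheme.{u}} [IsLocallyNoetherian X] {p : X ⟶ Spec (CommRingCat.of R)} {g' : X' ⟶ X}
    {p' : X' ⟶ Spec (CommRingCat.of R')}
    (H : IsPullback g' p' p (Spec.map (CommRingCat.ofHom (algebraMap R R')))) (x' : X') :
    ∃ (X₁ : Scheme.{u}) (e : X₁ ⟶ X) (x₁ : X₁), AlgebraicGeometry.Etale e ∧ e x₁ = g' x' ∧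
      Nonempty (X₁.presheaf.stalk x₁ ≃+* X'.presheaf.stalk x') := by
  obtain ⟨X₁, e, m, he, hfl, hm, hme⟩ := exists_factor H
  refine ⟨X₁, e, m x', he, ?_, ?_⟩
  · rw [← Scheme.Hom.comp_apply, hme]
  · have := Groth.Agent.Flat2E.GenericFibre.isIso_stalkMap_of_flat_mono m x'
    exact ⟨(asIso (m.stalkMap x')).commRingCatIsoToRingEquiv⟩

theorem normal_stalk {X X' : Scheme.{u}} [IsLocallyNoetherian X] {p : X ⟶ Spec (CommRingCat.of R)} {g' : X' ⟶ X}
    {p' : X' ⟶ Spec (CommRingCat.of R')}
    (H : IsPullback g' p' p (Spec.map (CommRingCat.ofHom (algebraMap R R')))) (x' : X')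
    (h : IsDomain (X.presheaf.stalk (g' x')) ∧ IsIntegrallyClosed (X.presheaf.stalk (g' x'))) :
    IsDomain (X'.presheaf.stalk x') ∧ IsIntegrallyClosed (X'.presheaf.stalk x') := by
  obtain ⟨X₁, e, x₁, he, hex, ⟨ε⟩⟩ := exists_stalk H x'
  rw [← hex] at h
  obtain ⟨h1, h2⟩ := (S0066.result e x₁).mpr h
  exact ⟨MulEquiv.isDomain _ ε.symm.toMulEquiv, IsIntegrallyClosed.of_equiv ε⟩

theorem regular_stalk {X X' : Scheme.{u}} [IsLocallyNoetherian X] {p : X ⟶ Spec (CommRingCat.of R)} {g' : X' ⟶ X}
    {p' : X' ⟶ Spec (CommRingCat.of R')}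
    (H : IsPullback g' p' p (Spec.map (CommRingCat.ofHom (algebraMap R R')))) (x' : X')
    (h : IsRegularLocalRing (X.presheaf.stalk (g' x'))) :
    IsRegularLocalRing (X'.presheaf.stalk x') := by
  obtain ⟨X₁, e, x₁, he, hex, ⟨ε⟩⟩ := exists_stalk H x'
  rw [← hex] at h
  have h1 := (S0065.result e x₁).mpr h
  exact IsRegularLocalRing.of_ringEquiv ε

end

end K380.EtBC
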