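import Groth.Agent.Models.K380.Slope

/-!
# Families of functions modulo `π`, closed subschemes and pull back

* `princ t`: the ideal sheaf generated by a global function.
* `exists_glue`, `exists_fam`: families compatible modulo `π` are the functions on `V(π)`.
* `exists_pull`: pull back of families.
-/

set_option autoImplicit false
universe u

open CategoryTheory CategoryTheory.Limits AlgebraicGeometry Opposite TopologicalSpace

namespace K380.FamPull

open Groth.Agent Groth.Agent.Dix.NormalSec Groth.Agent.Fdesc.LocGen Groth.Agent.Models.H67.NormFam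
open Groth.Agent.Models.H67.NormRoot Groth.Agent.Models.H67.FibreField Groth.Agent.Models.H67

variable {X : Scheme.{u}}

/-- The ideal sheaf generated by a global function. -/
noncomputable def princ (t : Γ(X, ⊤)) : X.IdealSheafData where
  ideal U := Ideal.span {(ores le_top t : Γ(X, U.1))}
  map_ideal_basicOpen U f := by
    rw [Ideal.map_span, Set.image_singleton]
    congr 1
    exact congrArg (fun y => ({y} : Set _)) (ores_ores le_top (X.basicOpen_le f) t)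

lemma princ_ideal (t : Γ(X, ⊤)) (U : X.affineOpens) :
    (princ t).ideal U = Ideal.span {(ores le_top t : Γ(X, U.1))} := rfl

lemma ap_princ_eq_zero_iff (t : Γ(X, ⊤)) (U : X.affineOpens) (f : Γ(X, U.1)) :
    ap (princ t).subschemeι U.1 f = 0 ↔ ores le_top t ∣ f := by
  rw [← Ideal.mem_span_singleton, ← princ_ideal, ← (princ t).ker_subschemeι_app U]
  rfl

lemma iSup_preimage {Z : Scheme.{u}} (j : Z ⟶ X) :
    (⊤ : Z.Opens) ≤ ⨆ U : X.affineOpens, j ⁻¹ᵁ U.1 := by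
  intro z _
  obtain ⟨U, hU, hxU, -⟩ := exists_isAffineOpen_mem_and_subset (X := X) (x := j z) (U := ⊤) trivial
  exact Opens.mem_iSup.2 ⟨⟨U, hU⟩, hxU⟩

/-- Two global functions on `Z` agree if they agree on the preimages of the affine opens of `X`. -/
lemma ext_preimage {Z : Scheme.{u}} (j : Z ⟶ X) {a b : Γ(Z, ⊤)}
    (h : ∀ U : X.affineOpens, (ores le_top a : Γ(Z, j ⁻¹ᵁ U.1)) = ores le_top b) : a = b :=
  ores_ext (V := (⊤ : Z.Opens)) (fun U : X.affineOpens => j ⁻¹ᵁ U.1) (fun _ => le_top)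
    (iSup_preimage j) h

lemma ap_princ (t : Γ(X, ⊤)) : ap (princ t).subschemeι ⊤ t = 0 := by
  refine ext_preimage (princ t).subschemeι fun U => ?_
  have h1 := (ap_princ_eq_zero_iff t U (ores le_top t)).2 dvd_rfl
  rw [ap_ores] at h1
  exact h1.trans (map_zero _).symm

/-- A family compatible modulo `π` defines a function on every scheme on which `π` vanishes. -/
theorem exists_glue {π : Γ(X, ⊤)} (F : Fam π) {Z : Scheme.{u}} (j : Z ⟶ X) (hj : ap j ⊤ π = 0) :
    ∃ β : Γ(Z, ⊤), ∀ U : X.affineOpens, ores le_top β = ap j U.1 (F.a U) := by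
  have key : ∀ (U W : X.affineOpens) (h : W.1 ≤ U.1),
      ores (fun _ hz => h hz : j ⁻¹ᵁ W.1 ≤ j ⁻¹ᵁ U.1) (ap j U.1 (F.a U)) = ap j W.1 (F.a W) := by
    intro U W h
    rw [← ap_ores, ← sub_eq_zero, ← map_sub]
    obtain ⟨c, hc⟩ := F.compat U W h
    rw [hc, map_mul, preimage_top_ap j hj, zero_mul]
  refine ores_glue (V := (⊤ : Z.Opens)) (fun U : X.affineOpens => j ⁻¹ᵁ U.1) (fun _ => le_top)
    (iSup_preimage j) (fun U => ap j U.1 (F.a U)) ?_
  intro U V
  refine ores_ext (V := j ⁻¹ᵁ U.1 ⊓ j ⁻¹ᵁ V.1)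
    (fun W : {W : X.affineOpens // W.1 ≤ U.1 ∧ W.1 ≤ V.1} => j ⁻¹ᵁ W.1.1)
    (fun W z hz => ⟨W.2.1 hz, W.2.2 hz⟩) ?_ ?_
  · intro z hz
    obtain ⟨W, hzW, hWU, hWV⟩ := exists_affine_inf (y := j z) hz.1 hz.2
    exact Opens.mem_iSup.2 ⟨⟨W, hWU, hWV⟩, hzW⟩
  · rintro ⟨W, hWU, hWV⟩
    exact (ores_ores _ _ _).trans (((key U W hWU).trans (key V W hWV).symm).trans (ores_ores _ _ _).symm)

/-- A function on `V(π)` lifts to a family compatible modulo `π`. -/
theorem exists_fam (π : Γ(X, ⊤)) (β : Γ((princ π).subscheme, ⊤)) :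
    ∃ F : Fam π, ∀ U : X.affineOpens, ap (princ π).subschemeι U.1 (F.a U) = ores le_top β := by
  have hsurj : ∀ U : X.affineOpens, ∃ c : Γ(X, U.1), ap (princ π).subschemeι U.1 c = ores le_top β :=
    fun U => (princ π).subschemeι_app_surjective U _
  choose c hc using hsurj
  exact ⟨⟨c, fun U V h => by
    rw [← ap_princ_eq_zero_iff, map_sub, ap_ores, hc, hc, sub_eq_zero]
    exact ores_ores _ _ _⟩, hc⟩

lemma ap_comp {X' Z : Scheme.{u}} (j : Z ⟶ X') (ν : X' ⟶ X) (U : X.Opens) (a : Γ(X, U)) :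
    ap (j ≫ ν) U a = ap j (ν ⁻¹ᵁ U) (ap ν U a) := by
  change ((j ≫ ν).app U).hom a = _
  rw [Scheme.Hom.comp_app]
  rfl

/-- Pull back of a family. -/
theorem exists_pull {X' : Scheme.{u}} (ν : X' ⟶ X) {π : Γ(X, ⊤)} (F : Fam π) {π' : Γ(X', ⊤)}
    (hπ' : ap ν ⊤ π = π') :
    ∃ F' : Fam π', ∀ (U : X.affineOpens) (h : IsAffineOpen (ν ⁻¹ᵁ U.1)),
      ores le_top π' ∣ F'.a ⟨ν ⁻¹ᵁ U.1, h⟩ - ap ν U.1 (F.a U) := by
  have hj : ap ((princ π').subschemeι ≫ ν) ⊤ π = 0 := by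
    rw [ap_comp, hπ']
    exact ap_princ π'
  obtain ⟨β, hβ⟩ := exists_glue F ((princ π').subschemeι ≫ ν) hj
  obtain ⟨F', hF'⟩ := exists_fam π' β
  refine ⟨F', fun U h => ?_⟩
  rw [← ap_princ_eq_zero_iff π' ⟨ν ⁻¹ᵁ U.1, h⟩, map_sub, hF', sub_eq_zero]
  exact (hβ U).trans (ap_comp _ _ _ _)

/-- Families modulo associated elements. -/
theorem exists_const_of_dvd {R : Type u} [CommRing R] (p : X ⟶ Spec (CommRingCat.of R)) {s t : R}
    (h1 : s ∣ t) (h2 : t ∣ s)
    (h : ∀ F : Fam (Slope.gb p s), ∃ r : R, ∀ U : X.affineOpens,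
      (ores le_top (Slope.gb p s) : Γ(X, U.1)) ∣ F.a U - ores le_top (Slope.gb p r))
    (F : Fam (Slope.gb p t)) : ∃ r : R, ∀ U : X.affineOpens,
      (ores le_top (Slope.gb p t) : Γ(X, U.1)) ∣ F.a U - ores le_top (Slope.gb p r) := by
  have h3 : ∀ U : X.Opens, (ores le_top (Slope.gb p s) : Γ(X, U)) ∣ ores le_top (Slope.gb p t) :=
    fun U => map_dvd _ (map_dvd _ h1)
  have h4 : ∀ U : X.Opens, (ores le_top (Slope.gb p t) : Γ(X, U)) ∣ ores le_top (Slope.gb p s) :=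
    fun U => map_dvd _ (map_dvd _ h2)
  obtain ⟨r, hr⟩ := h ⟨F.a, fun U V h => (h3 V.1).trans (F.compat U V h)⟩
  exact ⟨r, fun U => (h4 U.1).trans (hr U)⟩

end K380.FamPull
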