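import Groth.Prelude.Def_Pi1
import Groth.Agent.CalgC.DimFT
import Groth.Agent.S9346
import Groth.Agent.S0386
import Groth.Agent.Dix.NormalSec
import Mathlib.AlgebraicGeometry.Morphisms.Flat
import Mathlib.AlgebraicGeometry.Morphisms.Finite
import Mathlib.RingTheory.IntegralClosure.GoingDown
import Mathlib.RingTheory.Flat.TorsionFree
import Mathlib.RingTheory.DedekindDomain.Basic

/-!
# A finite morphism of integral normal surfaces is flat outside finitely many points of codimension two
-/

set_option autoImplicit false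
universe u

open CategoryTheory CategoryTheory.Limits AlgebraicGeometry TopologicalSpace

namespace K380.FlatCofinite

/-- The topological Krull dimension bounds the dimension of the local rings. -/
theorem ringKrullDim_stalk_le (X : Scheme.{u}) (x : X) :
    ringKrullDim (X.presheaf.stalk x) ≤ topologicalKrullDim X := by
  rw [ringKrullDim_stalk_eq_coheight]
  refine (Order.coheight_le_krullDim x).trans ?_
  refine Order.krullDim_le_of_strictMono
    (fun x : X => (⟨closure {x}, isIrreducible_singleton.closure, isClosed_closure⟩ : IrreducibleCloseds X)) ?_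
  intro x y hxy
  have h1 : y ⤳ x := Scheme.le_iff_specializes.1 hxy.le
  have h2 : ¬ x ⤳ y := fun h => hxy.not_ge (Scheme.le_iff_specializes.2 h)
  refine lt_of_le_not_ge (specializes_iff_closure_subset.1 h1) ?_
  intro h3
  exact h2 (specializes_iff_closure_subset.2 h3)

/-- For a finite dominant morphism of integral schemes with normal target the dimensions of the local rings at
a point and its image agree. -/
theorem ringKrullDim_eq {X Y : Scheme.{u}} [IsIntegral X] [IsIntegral Y] (hY : Pi1.IsNormalScheme Y)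
    (f : X ⟶ Y) [IsIntegralHom f] [IsDominant f] (x : X) :
    ringKrullDim (X.presheaf.stalk x) = ringKrullDim (Y.presheaf.stalk (f x)) := by
  obtain ⟨V, hV, hyV, -⟩ := exists_isAffineOpen_mem_and_subset (X := Y) (x := f x) (U := ⊤) trivial
  have hU : IsAffineOpen (f ⁻¹ᵁ V) := hV.preimage f
  let xU : ↥(f ⁻¹ᵁ V) := ⟨x, hyV⟩
  let yV : ↥V := ⟨f x, hyV⟩
  have : Nonempty V := ⟨yV⟩
  have : Nonempty ↥(f ⁻¹ᵁ V) := ⟨xU⟩
  let _ : Algebra Γ(Y, V) Γ(X, f ⁻¹ᵁ V) := (f.app V).hom.toAlgebra
  have hint : Algebra.IsIntegral Γ(Y, V) Γ(X, f ⁻¹ᵁ V) := by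
    constructor
    exact IsIntegralHom.isIntegral_app f V hV
  have hinj : Function.Injective (f.app V) := by
    have h1 := (Groth.Agent.S9346.result f).out 0 3
    have h2 := h1.1 inferInstance (f ⁻¹ᵁ V) V le_rfl hU hV ⟨x, hyV⟩
    rwa [Scheme.Hom.appLE_eq_app] at h2
  have hfs : FaithfulSMul Γ(Y, V) Γ(X, f ⁻¹ᵁ V) := (faithfulSMul_iff_algebraMap_injective _ _).2 hinj
  have hne : Nonempty ((f ⁻¹ᵁ V : X.Opens) : Set X) := ⟨xU⟩
  have hdom : IsDomain Γ(X, f ⁻¹ᵁ V) := @IsIntegral.component_integral _ _ _ ⟨xU⟩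
  have hdom2 : IsDomain Γ(Y, V) := inferInstance
  have hic : IsIntegrallyClosed Γ(Y, V) := Groth.Agent.Dix.NormalSec.isIntegrallyClosed V fun y _ => (hY y).2
  let _ := TopCat.Presheaf.algebra_section_stalk X.presheaf xU
  let _ := TopCat.Presheaf.algebra_section_stalk Y.presheaf yV
  have i1 : IsLocalization.AtPrime (X.presheaf.stalk x) (hU.primeIdealOf xU).asIdeal := hU.isLocalization_stalk xU
  have i2 : IsLocalization.AtPrime (Y.presheaf.stalk (f x)) (hV.primeIdealOf yV).asIdeal :=
    hV.isLocalization_stalk yV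
  have e1 := IsLocalization.AtPrime.ringKrullDim_eq_height (hU.primeIdealOf xU).asIdeal (X.presheaf.stalk x)
  have e2 := IsLocalization.AtPrime.ringKrullDim_eq_height (hV.primeIdealOf yV).asIdeal
    (Y.presheaf.stalk (f x))
  have h3 : (hU.primeIdealOf xU).asIdeal.under Γ(Y, V) = (hV.primeIdealOf yV).asIdeal := by
    have h4 := IsAffineOpen.comap_primeIdealOf_appLE (f := f) V hV _ hU le_rfl hyV
    rw [Scheme.Hom.appLE_eq_app] at h4
    exact congrArg PrimeSpectrum.asIdeal h4
  have hgd : Algebra.HasGoingDown Γ(Y, V) Γ(X, f ⁻¹ᵁ V) := inferInstance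
  rw [e1, e2, ← h3, Groth.Agent.CalgC.DimFT.height_under_eq]

/-- Specialization strictly raises the dimension of the (finite dimensional) local rings. -/
theorem ringKrullDim_lt {X : Scheme.{u}} {x y : X} (h : x ⤳ y) (hne : x ≠ y) {n : ℕ}
    (hy : ringKrullDim (X.presheaf.stalk y) ≤ n) :
    ringKrullDim (X.presheaf.stalk x) + 1 ≤ n := by
  rw [ringKrullDim_stalk_eq_coheight] at hy ⊢
  have h1 : y < x := by
    rw [lt_iff_le_not_ge]
    refine ⟨Scheme.le_iff_specializes.2 h, fun h2 => hne ?_⟩
    exact (h.antisymm (Scheme.le_iff_specializes.1 h2)).eq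
  have h2 : Order.coheight x + 1 ≤ Order.coheight y := Order.coheight_add_one_le h1
  have h3 : Order.coheight y ≤ (n : ℕ∞) := by exact_mod_cast hy
  exact_mod_cast h2.trans h3

/-- A closed subset of a Noetherian scheme all of whose local rings have dimension at most `n` is finite
if all local rings at its points have dimension `n`. -/
theorem finite_of_forall_dim {X : Scheme.{u}} [IsNoetherian X] (Z : Set X) (hZ : IsClosed Z) (n : ℕ)
    (hX : ∀ x : X, ringKrullDim (X.presheaf.stalk x) ≤ n)
    (h : ∀ z ∈ Z, (n : WithBot ℕ∞) ≤ ringKrullDim (X.presheaf.stalk z)) : Z.Finite := by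
  have hN : NoetherianSpace Z := inferInstance
  have hfin := NoetherianSpace.finite_irreducibleComponents (α := Z)
  have hqs : QuasiSober Z := hZ.isClosedEmbedding_subtypeVal.quasiSober
  have h1 : ∀ z : Z, {z} ∈ irreducibleComponents Z := by
    intro z
    obtain ⟨W, hW, hzW⟩ : ∃ W ∈ irreducibleComponents Z, z ∈ W :=
      ⟨_, irreducibleComponent_mem_irreducibleComponents z, mem_irreducibleComponent⟩
    have hWi : IsIrreducible W := hW.1
    have hWc : IsClosed W := isClosed_of_mem_irreducibleComponents W hW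
    obtain ⟨ξ, hξ⟩ := QuasiSober.sober hWi hWc
    have hsp : ξ ⤳ z := hξ.specializes hzW
    have hsp' : (ξ : X) ⤳ (z : X) := hsp.map continuous_subtype_val
    have heq : ξ = z := by
      by_contra hne
      have h3 := ringKrullDim_lt hsp' (fun h => hne (Subtype.ext h)) (hX z)
      have h4 := h ξ ξ.2
      have h5 : (n : WithBot ℕ∞) + 1 ≤ n := (add_le_add_left h4 1).trans h3
      exact absurd h5 (by exact_mod_cast (Nat.not_succ_le_self n))
    have h6 : W = {z} := by
      apply Set.eq_singleton_iff_unique_mem.2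
      refine ⟨hzW, fun w hw => ?_⟩
      have hsp2 : z ⤳ w := heq ▸ hξ.specializes hw
      by_contra hne
      have h3 := ringKrullDim_lt (hsp2.map continuous_subtype_val)
        (fun h => hne (Subtype.ext h.symm)) (hX w)
      have h4 := h z z.2
      have h5 : (n : WithBot ℕ∞) + 1 ≤ n := (add_le_add_left h4 1).trans h3
      exact absurd h5 (by exact_mod_cast (Nat.not_succ_le_self n))
    rw [← h6]; exact hW
  have h2 : (Set.univ : Set Z).Finite := by
    refine Set.Finite.of_finite_image (f := fun z => ({z} : Set Z)) ?_ ?_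
    · exact hfin.subset (by rintro _ ⟨z, -, rfl⟩; exact h1 z)
    · intro a _ b _ hab
      exact Set.singleton_injective hab
  have := h2.image Subtype.val
  simpa using this


/-- A ring extension of a normal noetherian domain of dimension at most one by a domain is flat. -/
theorem flat_of_dim_le_one {A B : Type*} [CommRing A] [CommRing B] [IsDomain A] [IsDomain B]
    [IsNoetherianRing A] [IsIntegrallyClosed A] (hA : ringKrullDim A ≤ 1) (φ : A →+* B)
    (hφ : Function.Injective φ) : φ.Flat := by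
  algebraize [φ]
  have h1 : Ring.KrullDimLE 1 A := (Ring.krullDimLE_iff).2 (by exact_mod_cast hA)
  have h2 : Ring.DimensionLEOne A := ⟨fun {p} hne hp => hp.isMaximal_of_ne_bot hne⟩
  have h3 : IsDedekindDomain A := { }
  have h4 : FaithfulSMul A B := (faithfulSMul_iff_algebraMap_injective _ _).2 hφ
  change Module.Flat A B
  infer_instance

/-- A finite surjective morphism of normal integral noetherian schemes of dimension two is flat outside a
finite set of points of codimension two. -/
theorem main {X Y : Scheme.{u}} [IsIntegral X] [IsIntegral Y] [IsNoetherian X] [IsNoetherian Y]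
    (hnY : Pi1.IsNormalScheme Y) (hdX : topologicalKrullDim X = 2) (hdY : topologicalKrullDim Y = 2)
    (f : X ⟶ Y) [IsFinite f] [Surjective f] [LocallyOfFinitePresentation f] :
    ∃ V : Y.Opens, ((V : Set Y)ᶜ).Finite ∧ (∀ y : Y, y ∉ V → ringKrullDim (Y.presheaf.stalk y) = 2) ∧
      (((f ⁻¹ᵁ V : X.Opens) : Set X)ᶜ).Finite ∧ (∀ x : X, x ∉ f ⁻¹ᵁ V → ringKrullDim (X.presheaf.stalk x) = 2) ∧
      Flat (f ∣_ V) := by
  have hopen := Groth.Agent.S0386.result f
  let F : Set X := {x : X | (f.stalkMap x).hom.Flat}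
  have hF : IsOpen F := hopen
  have hZ : IsClosed (f '' Fᶜ) := f.isClosedMap _ hF.isClosed_compl
  have hdom : IsDominant f := inferInstance
  have hinj : ∀ x : X, Function.Injective (f.stalkMap x) := by
    have h1 := (Groth.Agent.S9346.result f).out 0 5
    exact h1.1 hdom
  have hdimY : ∀ y : Y, ringKrullDim (Y.presheaf.stalk y) ≤ (2 : ℕ) := fun y =>
    (ringKrullDim_stalk_le Y y).trans (by rw [hdY]; rfl)
  have hdimX : ∀ x : X, ringKrullDim (X.presheaf.stalk x) ≤ (2 : ℕ) := fun x =>
    (ringKrullDim_stalk_le X x).trans (by rw [hdX]; rfl)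
  have hdim : ∀ y ∈ f '' Fᶜ, ((2 : ℕ) : WithBot ℕ∞) ≤ ringKrullDim (Y.presheaf.stalk y) := by
    rintro _ ⟨x, hx, rfl⟩
    by_contra hlt
    apply hx
    have hle : ringKrullDim (Y.presheaf.stalk (f x)) ≤ 1 := by
      have h1 : ringKrullDim (Y.presheaf.stalk (f x)) < ((2 : ℕ) : WithBot ℕ∞) := not_le.1 hlt
      exact ENat.WithBot.lt_add_one_iff.1 h1
    have := (hnY (f x)).2
    exact flat_of_dim_le_one hle _ (hinj x)
  refine ⟨⟨(f '' Fᶜ)ᶜ, hZ.isOpen_compl⟩, ?_, ?_, ?_, ?_, ?_⟩
  · change (((f '' Fᶜ)ᶜ)ᶜ).Finite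
    rw [compl_compl]
    exact finite_of_forall_dim _ hZ 2 hdimY hdim
  · intro y hy
    have hy' : y ∈ f '' Fᶜ := not_not.1 hy
    exact le_antisymm (hdimY y) (hdim y hy')
  · have e : (((f ⁻¹ᵁ ⟨(f '' Fᶜ)ᶜ, hZ.isOpen_compl⟩ : X.Opens) : Set X)ᶜ) = f ⁻¹' (f '' Fᶜ) := by
      ext x
      simp
    rw [e]
    refine finite_of_forall_dim _ (hZ.preimage f.continuous) 2 hdimX ?_
    intro x hx
    rw [ringKrullDim_eq hnY f x]
    exact hdim _ hx
  · intro x hx
    have hx' : f x ∈ f '' Fᶜ := not_not.1 hx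
    rw [ringKrullDim_eq hnY f x]
    exact le_antisymm (hdimY _) (hdim _ hx')
  · rw [Flat.iff_flat_stalkMap]
    intro x
    have hx : x.1 ∈ F := by
      by_contra h
      exact x.2 ⟨x.1, h, rfl⟩
    exact (RingHom.Flat.respectsIso.arrow_mk_iso_iff
      (morphismRestrictStalkMap f _ x)).mpr hx

end K380.FlatCofinite
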