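import Groth.Agent.Models.K380.NormBC
import Groth.Agent.Ega3B.NormalBirational

/-!
# The function field of a normal proper scheme over a DVR

* `exists_of_isIntegral`: if `R → Γ(X, O_X)` is surjective and `X` is normal then `R` is integrally closed in
  the function field.
* `exists_ff`: the map on function fields.
-/

set_option autoImplicit false
universe u

open CategoryTheory CategoryTheory.Limits AlgebraicGeometry Opposite TopologicalSpace

namespace K380.FunFld

open Groth.Agent Groth.Agent.Dix.NormalSec Groth.Agent.Fdesc.LocGen Groth.Agent.Models.H67.FibreField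
open K380.Slope K380.FamPull K380.NormBC

variable {X : Scheme.{u}} [IsIntegral X]

lemma gen_mem (U : X.Opens) [h : Nonempty U] : genericPoint X ∈ U := by
  obtain ⟨⟨x, hx⟩⟩ := h
  exact (genericPoint_specializes x).mem_open U.2 hx

/-- On a normal integral scheme a rational function integral over the global functions is a global function. -/
theorem exists_of_isIntegral (hN : ∀ x : X, IsIntegrallyClosed (X.presheaf.stalk x)) {x : X.functionField}
    (hx : (germ ⊤ (genericPoint X) trivial).IsIntegralElem x) :
    ∃ t : Γ(X, ⊤), germ ⊤ (genericPoint X) trivial t = x := by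
  have key : ∀ U : {U : X.affineOpens // Nonempty U.1}, ∃ a : Γ(X, U.1.1),
      ∀ h : genericPoint X ∈ U.1.1, germ U.1.1 (genericPoint X) h a = x := by
    rintro ⟨U, hU⟩
    have h1 := Ega3B.NormalBirational.isIntegrallyClosed_section hN U.1 U.2
    have h2 : IsFractionRing Γ(X, U.1) X.functionField :=
      functionField_isFractionRing_of_isAffineOpen X U.1 U.2
    have h3 : IsIntegral Γ(X, U.1) x := by
      obtain ⟨P, hP, hP'⟩ := hx
      refine ⟨P.map (ores le_top), hP.map _, ?_⟩
      rw [Polynomial.eval₂_map]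
      have h4 : (algebraMap Γ(X, U.1) X.functionField).comp (ores le_top) =
          germ ⊤ (genericPoint X) trivial := by
        ext a
        exact germ_ores le_top _ (gen_mem U.1) a
      rw [h4]
      exact hP'
    obtain ⟨a, ha⟩ := IsIntegrallyClosed.isIntegral_iff.1 h3
    exact ⟨a, fun _ => ha⟩
  choose a ha using key
  obtain ⟨t, ht⟩ := ores_glue (V := (⊤ : X.Opens)) (fun U : {U : X.affineOpens // Nonempty U.1} => U.1.1)
    (fun _ => le_top) (by
      intro z _
      obtain ⟨U, hU, hxU, -⟩ := exists_isAffineOpen_mem_and_subset (X := X) (x := z) (U := ⊤) trivial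
      exact Opens.mem_iSup.2 ⟨⟨⟨U, hU⟩, ⟨⟨z, hxU⟩⟩⟩, hxU⟩) a (by
      intro U V
      have hU : genericPoint X ∈ U.1.1 := have := U.2; gen_mem U.1.1
      have hV : genericPoint X ∈ V.1.1 := have := V.2; gen_mem V.1.1
      apply germ_injective (U.1.1 ⊓ V.1.1) (genericPoint X) ⟨hU, hV⟩
      exact ((germ_ores _ _ _ _).trans (ha U hU)).trans ((germ_ores _ _ _ _).trans (ha V hV)).symm)
  refine ⟨t, ?_⟩
  obtain ⟨U, hU, hxU, -⟩ :=
    exists_isAffineOpen_mem_and_subset (X := X) (x := genericPoint X) (U := ⊤) trivial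
  have h1 := congrArg (germ U (genericPoint X) hxU) (ht ⟨⟨U, hU⟩, ⟨⟨_, hxU⟩⟩⟩)
  exact (germ_ores _ _ _ _).symm.trans (h1.trans (ha ⟨⟨U, hU⟩, ⟨⟨_, hxU⟩⟩⟩ hxU))

/-- The map on function fields of a dominant morphism of integral schemes. -/
theorem exists_ff {Z : Scheme.{u}} [IsIntegral Z] (h : Z ⟶ X) (hgen : h (genericPoint Z) = genericPoint X) :
    ∃ ι : X.functionField →+* Z.functionField, ∀ (U : X.Opens) (hU : h (genericPoint Z) ∈ U)
      (hU' : genericPoint X ∈ U) (a : Γ(X, U)), ι (germ U (genericPoint X) hU' a) = val h U hU a := by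
  have hsp : h (genericPoint Z) ⤳ genericPoint X := by rw [hgen]
  have hsp' : genericPoint X ⤳ h (genericPoint Z) := by rw [hgen]
  refine ⟨(h.stalkMap (genericPoint Z)).hom.comp (X.presheaf.stalkSpecializes hsp).hom,
    fun U hU hU' a => ?_⟩
  have h1 := TopCat.Presheaf.germ_stalkSpecializes X.presheaf hU' hsp
  have h2 := congr(($h1).hom a)
  change (h.stalkMap (genericPoint Z)).hom ((X.presheaf.stalkSpecializes hsp).hom
    ((X.presheaf.germ U (genericPoint X) hU').hom a)) = _
  have h3 : (X.presheaf.stalkSpecializes hsp).hom ((X.presheaf.germ U (genericPoint X) hU').hom a) =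
      (X.presheaf.germ U (h (genericPoint Z)) hU).hom a := h2
  rw [h3]
  exact (germ_ap h (genericPoint Z) hU a).symm

end K380.FunFld
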