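import Groth.Prelude.Def_Coh
import Groth.Prelude.Def_ClSub2
import Groth.Agent.Ega3B.LeraySheaf
import Groth.Agent.Etbc.H228.LowEdge

/-!
# The pull back map on `H^1` of the structure sheaf

`pull f : H^1(Y, O_Y) → H^1(X, O_X)` for `f : X ⟶ Y`: `O_Y → f_* O_X` followed by the Leray edge map.
It is linear, injective if `O_Y = f_* O_X` and bijective if moreover `R^1 f_* O_X = 0`.
-/

set_option autoImplicit false
universe u

open CategoryTheory CategoryTheory.Limits AlgebraicGeometry TopologicalSpace Opposite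

namespace K380.LerayOne

open Groth.Agent Groth.Agent.Ega3B.LeraySheaf Groth.Agent.Ega3B.ExtAdj

variable {X Y : Scheme.{u}} (f : X ⟶ Y)

theorem φ_one_bijective (G : Sheaf (Opens.grothendieckTopology X) AddCommGrpCat.{u})
    (h : IsZero ((Coh.RpushAb f 1).obj G)) (Z : Sheaf (Opens.grothendieckTopology Y) AddCommGrpCat.{u}) :
    Function.Bijective (φ (adjf f.base) Z G 1) := by
  refine (Etbc.H228.LowEdge.psi_low (adjf f.base) Z 1 G ?_).1 1 le_rfl
  intro q hq hq1
  obtain rfl : q = 1 := by omega
  exact h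

theorem φ_one_injective (G : Sheaf (Opens.grothendieckTopology X) AddCommGrpCat.{u})
    (Z : Sheaf (Opens.grothendieckTopology Y) AddCommGrpCat.{u}) :
    Function.Injective (φ (adjf f.base) Z G 1) :=
  Etbc.H228.LowEdge.psi_one_injective (adjf f.base) Z G

theorem comp_one_injective (G : Sheaf (Opens.grothendieckTopology X) AddCommGrpCat.{u}) :
    Function.Injective (compTop f.base G 1) :=
  (((CohqA.SheafH.HEquivHU G 1 (topT f.base)).symm.injective.comp
    ((pre_bijective f.base G 1 ⊤).1.comp (φ_one_injective f G _)))).comp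
      (CohqA.SheafH.HEquivHU ((Rf f.base).obj G) 1 (T := (⊤ : Opens Y)) isTerminalTop).injective

theorem comp_one_bijective (G : Sheaf (Opens.grothendieckTopology X) AddCommGrpCat.{u})
    (h : IsZero ((Coh.RpushAb f 1).obj G)) : Function.Bijective (compTop f.base G 1) :=
  (((CohqA.SheafH.HEquivHU G 1 (topT f.base)).symm.bijective.comp
    (comp_bijective_of_φ f.base G 1 ⊤ (φ_one_bijective f G h _)))).comp
      (CohqA.SheafH.HEquivHU ((Rf f.base).obj G) 1 (T := (⊤ : Opens Y)) isTerminalTop).bijective

/-- `O_Y → f_* O_X` as a morphism of abelian sheaves. -/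
noncomputable def unitAb : Coh.toAb (Coh.structureModule Y) ⟶
    (Rf f.base).obj (Coh.toAb (Coh.structureModule X)) :=
  (SheafOfModules.toSheaf Y.ringCatSheaf).map (ClSub.unitToPush f)

/-- The pull back `H^1(Y, O_Y) → H^1(X, O_X)`. -/
noncomputable def pull : Coh.HH Y (Coh.structureModule Y) 1 →+ Coh.HH X (Coh.structureModule X) 1 :=
  (compTop f.base (Coh.toAb (Coh.structureModule X)) 1).comp (Sheaf.H.map (unitAb f) 1)

theorem pull_apply (x : Coh.HH Y (Coh.structureModule Y) 1) :
    pull f x = compTop f.base (Coh.toAb (Coh.structureModule X)) 1 (Sheaf.H.map (unitAb f) 1 x) := rfl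

theorem smulAb_comp_unitAb (t : Coh.Γtop Y) (t' : Coh.Γtop X) (ht : t' = f.appTop.hom t) :
    Coh.smulAb (Coh.structureModule Y) t ≫ unitAb f =
      unitAb f ≫ (Rf f.base).map (Coh.smulAb (Coh.structureModule X) t') := by
  refine Sheaf.hom_ext ?_
  refine NatTrans.ext (funext fun U => ?_)
  refine AddCommGrpCat.hom_ext (AddMonoidHom.ext fun s => ?_)
  subst ht
  let s' : Γ(Y, U.unop) := s
  change (f.app U.unop).hom ((Y.presheaf.map (homOfLE le_top).op t : Γ(Y, U.unop)) * s') =
    (X.presheaf.map (homOfLE le_top).op (f.appTop.hom t) : Γ(X, f ⁻¹ᵁ U.unop)) * (f.app U.unop).hom s'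
  rw [map_mul]
  congr 1
  exact congr($(f.naturality (homOfLE le_top : U.unop ⟶ ⊤).op) t)

/-- `pull f` is compatible with multiplication by functions. -/
theorem pull_smul_top (t : Coh.Γtop Y) (x : Coh.HH Y (Coh.structureModule Y) 1) :
    pull f (t • x) = (show Coh.Γtop X from f.appTop.hom t) • pull f x := by
  change compTop f.base (Coh.toAb (Coh.structureModule X)) 1 (Sheaf.H.map (unitAb f) 1
    (Sheaf.H.map (Coh.smulAb (Coh.structureModule Y) t) 1 x)) =
    Sheaf.H.map (Coh.smulAb (Coh.structureModule X) (f.appTop.hom t)) 1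
      (compTop f.base (Coh.toAb (Coh.structureModule X)) 1 (Sheaf.H.map (unitAb f) 1 x))
  rw [← Sheaf.H.map_comp_apply, smulAb_comp_unitAb f t _ rfl, Sheaf.H.map_comp_apply]
  exact compTop_natural f.base _ 1 _

/-- `pull f` is linear over the base ring. -/
theorem pull_smul {A : Type u} [CommRing A] [X.Over (Spec (CommRingCat.of A))] [Y.Over (Spec (CommRingCat.of A))]
    (hf : f ≫ (Y ↘ Spec (CommRingCat.of A)) = X ↘ Spec (CommRingCat.of A)) (a : A)
    (x : Coh.HH Y (Coh.structureModule Y) 1) : pull f (a • x) = a • pull f x := by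
  change pull f (Coh.toGlobal (Y ↘ Spec (CommRingCat.of A)) a • x) =
    Coh.toGlobal (X ↘ Spec (CommRingCat.of A)) a • pull f x
  rw [pull_smul_top, ← hf]
  congr 1

theorem isIso_unitAb (h : IsIso (ClSub.unitToPush f)) : IsIso (unitAb f) := by
  have h' : IsIso (C := SheafOfModules Y.ringCatSheaf) (ClSub.unitToPush f) := h
  exact (SheafOfModules.toSheaf Y.ringCatSheaf).map_isIso (ClSub.unitToPush f)

theorem bijective_unitAb (h : IsIso (ClSub.unitToPush f)) : Function.Bijective (Sheaf.H.map (unitAb f) 1) := by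
  have h2 : IsIso (unitAb f) := isIso_unitAb f h
  exact ConcreteCategory.bijective_of_isIso ((Sheaf.functorH _ 1).map (unitAb f))

theorem pull_injective (h : IsIso (ClSub.unitToPush f)) : Function.Injective (pull f) :=
  (comp_one_injective f _).comp (bijective_unitAb f h).1

theorem pull_bijective (h : IsIso (ClSub.unitToPush f))
    (h0 : IsZero ((Coh.RpushAb f 1).obj (Coh.toAb (Coh.structureModule X)))) : Function.Bijective (pull f) :=
  (comp_one_bijective f _ h0).comp (bijective_unitAb f h)

end K380.LerayOne
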