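import Groth.Agent.CurvesC.SolOfRat
import Groth.Agent.Models.K380.R1Zero
import Groth.Agent.Models.K380.LerayOne

/-!
# Rational singularities from a modification

`B` normal Nagata domain, `τ : T → Spec B` a normal modification with `H^1(T, O_T) = 0` all whose closed points
have rational singularities. Then `B` defines a rational singularity.
-/

set_option autoImplicit false
universe u

open CategoryTheory CategoryTheory.Limits AlgebraicGeometry TopologicalSpace

namespace K380.JoinRat

open Groth.Agent Groth.Agent.CurvesC Groth.Agent.CurvesC.ValCousin Groth.Agent.CurvesC.ModDim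
open Groth.Agent.CurvesC.SolOfRat

/-- `H^1` vanishes on a normal modification of a scheme with rational singularities and `H^1 = 0`. -/
theorem subsingleton_H1 {T X : Scheme.{u}} [IsIntegral T] [CompactSpace T] (hT : Pi1.IsNormalScheme T)
    (h1 : Subsingleton (Coh.HH T (Coh.structureModule T) 1))
    (hrat : ∀ t : T, IsClosed ({t} : Set T) → Curv2.IsRationalSing (T.presheaf.stalk t))
    (f : X ⟶ T) (hf : Modif.IsModif f) (hX : Pi1.IsNormalScheme X) :
    Subsingleton (Coh.HH X (Coh.structureModule X) 1) := by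
  have := hf.proper
  have := hf.integral
  obtain ⟨U, hU, hiso⟩ := hf.exists_isIso
  have hT' : ∀ t : T, IsIntegrallyClosed (T.presheaf.stalk t) := fun t => (hT t).2
  have h2 : IsIso (ClSub.unitToPush f) := Bir.isIso_unitToPush f
    (Bir.isIso_app f hT' (Bir.gen f U hU hiso) (Bir.bir f U hU hiso))
  have h3 := R1Zero.isZero_R1 f hX U hU hiso hrat
  have h4 := LerayOne.pull_bijective f h2 h3
  exact h4.2.subsingleton

section Good

variable {B : Type u} [CommRing B] [IsDomain B] [IsNoetherianRing B] [IsIntegrallyClosed B]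
  {T : Scheme.{u}} {τ : T ⟶ Spec (CommRingCat.of B)}

/-- Cousin problems adapted to a finite family of elements. -/
theorem exists_good' (hN : CAlg.IsNagata B) (hτ : Modif.IsModif τ) (hT : Pi1.IsNormalScheme T)
    (h1 : Subsingleton (Coh.HH T (Coh.structureModule T) 1))
    (hrat : ∀ t : T, IsClosed ({t} : Set T) → Curv2.IsRationalSing (T.presheaf.stalk t))
    (K : Type u) [Field K] [Algebra B K] [IsFractionRing B K] {ι : Type*} [Finite ι] (a : ι → B) (ha : ∃ i, a i ≠ 0)
    (φ : ι → K)
    (hφ : ∀ V : ValuationSubring K, Contains B V → ∀ i j, Gen V (fun l => algebraMap B K (a l)) i →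
      Gen V (fun l => algebraMap B K (a l)) j → φ i - φ j ∈ V) :
    ∃ g : K, ∀ V : ValuationSubring K, Contains B V →
      ∃ i, Gen V (fun l => algebraMap B K (a l)) i ∧ g - φ i ∈ V := by
  have hτp := hτ.proper
  have hTi := hτ.integral
  have hTn : IsLocallyNoetherian T := LocallyOfFiniteType.isLocallyNoetherian τ
  have hTc : CompactSpace T := QuasiCompact.compactSpace_of_compactSpace τ
  let I : Ideal B := Ideal.span (Set.range a)
  let J : T.IdealSheafData := (Curv2.idealSheaf B I).comap τ
  obtain ⟨P, b₀, hb₀⟩ := Groth.Agent.Flat2C.BlowExist.exists_isBlowUp J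
  have hft : BlowUp.IsFiniteTypeIdeal J := by
    intro U
    have : IsNoetherianRing Γ(T, U.1) := IsLocallyNoetherian.component_noetherian U
    exact IsNoetherian.noetherian _
  have hI : Curv2.idealSheaf B I ≠ ⊥ := by
    refine idealSheaf_ne_bot fun h => ?_
    obtain ⟨i, hi⟩ := ha
    have h1 : a i ∈ I := Ideal.subset_span ⟨i, rfl⟩
    rw [h] at h1
    exact hi h1
  have hJ : J ≠ ⊥ := by
    intro h0
    apply hI
    rw [← Scheme.IdealSheafData.support_eq_top_iff]
    have hs := hτ.surjective
    ext x
    simp only [TopologicalSpace.Closeds.coe_top, Set.mem_univ, iff_true]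
    obtain ⟨t, rfl⟩ := τ.surjective x
    have h2 : t ∈ J.support := by
      rw [h0, Scheme.IdealSheafData.support_bot]
      trivial
    have h3 : t ∈ (J.support : Set T) := h2
    rw [Scheme.IdealSheafData.support_comap] at h3
    exact h3
  let b := b₀ ≫ τ
  have hb₀m : Modif.IsModif b₀ := Modif.IsModif.of_isBlowUp hJ hft hb₀
  have hbm : Modif.IsModif b := hb₀m.comp hτ
  have hbeff : BlowUp.IsEffCartierIdeal ((Curv2.idealSheaf B I).comap b) := by
    have h2 : (Curv2.idealSheaf B I).comap b = J.comap b₀ := by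
      rw [Scheme.IdealSheafData.comap_comp]
    rw [h2]
    exact hb₀.1
  obtain ⟨X, ν, hν, hνfin, hnorm⟩ := hbm.exists_normalization hN
  have hf := hν.comp hbm
  let f := ν ≫ b
  have := hf.proper
  have := hf.integral
  have hH := subsingleton_H1 hT h1 hrat (ν ≫ b₀) (hν.comp hb₀m) hnorm
  let _ := (ValData.toK f).toAlgebra
  have hfrac : IsFractionRing B X.functionField := ValData.isFractionRing_toK f hf.exists_isIso
  let e : K ≃ₐ[B] X.functionField := IsLocalization.algEquiv (nonZeroDivisors B) K X.functionField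
  have he : ∀ x : B, e (algebraMap B K x) = ValData.toK f x := fun x => e.commutes x
  have hcomap : ∀ V : ValuationSubring X.functionField, (∀ x, ValData.toK f x ∈ V) →
      Contains B (V.comap (e : K →+* X.functionField)) := by
    intro V hV x
    rw [ValuationSubring.mem_comap]
    exact (he x) ▸ hV x
  obtain ⟨g, hg⟩ := exists_good f hnorm hH (fun i => e (φ i))
    (fun V i => Gen (V.comap (e : K →+* X.functionField)) (fun l => algebraMap B K (a l)) i) (by
      intro x
      obtain ⟨_, ⟨i, rfl⟩, hs⟩ := BlowUpCharts.exists_mem_chart hbeff (S := Set.range a) rfl (ν x)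
      obtain ⟨W0, hW0, hxW0⟩ := BlowUpCharts.mem_chart.1 hs
      obtain ⟨W, hW, hxW, hWW⟩ := exists_isAffineOpen_mem_and_subset (X := X) (U := ν ⁻¹ᵁ W0) hxW0
      have hη := Cousin.mem_of_nonempty X W x hxW
      have hrel : ∀ l, ∃ c : Γ(X, W), toSec f W (a l) = toSec f W (a i) * c := by
        intro l
        obtain ⟨c, hc⟩ := hW0.dvd (a l) (Ideal.subset_span ⟨l, rfl⟩)
        refine ⟨rs hWW ((ν.app W0).hom c), ?_⟩
        have h1 := congrArg (ν.app W0).hom hc
        rw [map_mul, ← BlowUpCharts.phi_comp, ← BlowUpCharts.phi_comp] at h1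
        have h2 := congrArg (rs hWW) h1
        rw [map_mul] at h2
        have h3 : ∀ z, rs hWW (BlowUpCharts.phi (ν ≫ b) (ν ⁻¹ᵁ W0) z) = toSec f W z := fun z =>
          toSec_res f hWW z
        rwa [h3, h3] at h2
      have hai : a i ≠ 0 := by
        intro h0
        have h1 := hW0.nzd
        rw [h0, map_zero] at h1
        have : Nonempty W0 := ⟨⟨_, hxW0⟩⟩
        have := hbm.integral
        have h2 : Nontrivial Γ(P, W0) := inferInstance
        exact zero_notMem_nonZeroDivisors h1
      refine ⟨W, hη, i, hxW, hW, fun V hV => ?_⟩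
      have hai' : algebraMap B K (a i) ≠ 0 := by
        rwa [Ne, FaithfulSMul.algebraMap_eq_zero_iff]
      refine gen_of_div_mem hai' fun l => ?_
      rw [ValuationSubring.mem_comap]
      obtain ⟨c, hc⟩ := hrel l
      have h1 := congrArg (X.presheaf.germ W (genericPoint X) hη) hc
      rw [map_mul, ValData.germ_toSec, ValData.germ_toSec] at h1
      have h2 : (e : K →+* X.functionField) (algebraMap B K (a l) / algebraMap B K (a i)) =
          X.presheaf.germ W (genericPoint X) hη c := by
        have h3 : ValData.toK f (a i) ≠ 0 := by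
          rw [← he]
          exact (map_ne_zero_iff _ e.injective).mpr hai'
        change e _ = _
        rw [map_div₀, he, he, h1, mul_comm, mul_div_assoc, div_self h3, mul_one]
      rw [h2]
      exact hV c) (by
      intro V hV i j hi hj
      have h1 := hφ _ (hcomap V hV) i j hi hj
      rw [ValuationSubring.mem_comap] at h1
      have h2 : (e : K →+* X.functionField) (φ i - φ j) = e (φ i) - e (φ j) := map_sub e _ _
      rwa [h2] at h1)
  refine ⟨e.symm g, fun V hV => ?_⟩
  let V' : ValuationSubring X.functionField := V.comap (e.symm : X.functionField →+* K)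
  have hV' : ∀ x, ValData.toK f x ∈ V' := by
    intro x
    rw [ValuationSubring.mem_comap, ← he]
    change e.symm (e _) ∈ V
    rw [AlgEquiv.symm_apply_apply]
    exact hV x
  have hVV : V'.comap (e : K →+* X.functionField) = V := by
    ext z
    rw [ValuationSubring.mem_comap, ValuationSubring.mem_comap]
    change e.symm (e z) ∈ V ↔ _
    rw [AlgEquiv.symm_apply_apply]
  obtain ⟨i, hi, hgi⟩ := hg V' hV'
  rw [hVV] at hi
  refine ⟨i, hi, ?_⟩
  rw [ValuationSubring.mem_comap] at hgi
  have h2 : (e.symm : X.functionField →+* K) (g - e (φ i)) = e.symm g - φ i := by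
    change e.symm _ = _
    rw [map_sub, AlgEquiv.symm_apply_apply]
  rwa [h2] at hgi

/-- Every Cousin problem on the valuation rings containing `B` is solvable. -/
theorem sol (hN : CAlg.IsNagata B) (hτ : Modif.IsModif τ) (hT : Pi1.IsNormalScheme T)
    (h1 : Subsingleton (Coh.HH T (Coh.structureModule T) 1))
    (hrat : ∀ t : T, IsClosed ({t} : Set T) → Curv2.IsRationalSing (T.presheaf.stalk t))
    (K : Type u) [Field K] [Algebra B K] [IsFractionRing B K] : Sol.Sol K B := by
  intro σ _ S f hcov hf
  classical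
  cases nonempty_fintype σ
  have hσ : Nonempty σ := ⟨(hcov ⊤ (fun _ => trivial)).choose⟩
  let i0 : σ := hσ.some
  let b : CousinAlg.Idx S → K := fun ψ => CousinAlg.bb S ψ.1
  obtain ⟨d, hd⟩ := IsLocalization.exist_integer_multiples_of_finite (nonZeroDivisors B) b
  choose a ha using hd
  have hd0 : algebraMap B K d ≠ 0 := IsFractionRing.to_map_ne_zero_of_mem_nonZeroDivisors d.2
  have ha' : ∀ ψ, algebraMap B K (a ψ) = algebraMap B K d * b ψ := fun ψ => by
    rw [ha, Algebra.smul_def]
  have ha0 : ∃ ψ, a ψ ≠ 0 := by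
    refine ⟨⟨fun _ => none, i0, rfl⟩, fun h => ?_⟩
    have h1 := ha' ⟨fun _ => none, i0, rfl⟩
    rw [h, map_zero] at h1
    have h2 : b ⟨fun _ => none, i0, rfl⟩ = 1 := by simp [b, CousinAlg.bb, CousinAlg.val]
    rw [h2, mul_one] at h1
    exact hd0 h1.symm
  have hgen : ∀ V : ValuationSubring K, ∀ φ, Gen V (fun l => algebraMap B K (a l)) φ → Gen V b φ := by
    intro V φ h
    simp only [ha'] at h
    exact ValInd.Gen.unscale hd0 h
  obtain ⟨g, hg⟩ := exists_good' hN hτ hT h1 hrat K a ha0 (fun φ => f φ.2.choose)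
    (fun V hV i j hi hj => hf V hV _ _
      (CousinAlg.subset_of_gen S (hcov V hV) (hgen V i hi) _ i.2.choose_spec)
      (CousinAlg.subset_of_gen S (hcov V hV) (hgen V j hj) _ j.2.choose_spec))
  refine ⟨g, fun V hV i hi => ?_⟩
  obtain ⟨φ, hφ, h1⟩ := hg V hV
  have h2 := hf V hV _ _ (CousinAlg.subset_of_gen S (hcov V hV) (hgen V φ hφ) _ φ.2.choose_spec) hi
  have h3 := add_mem h1 h2
  rwa [sub_add_sub_cancel] at h3

/-- Theorem: rational singularities from a modification. -/
theorem isRationalSing_of_modif (hN : CAlg.IsNagata B) (hτ : Modif.IsModif τ) (hT : Pi1.IsNormalScheme T)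
    (h1 : Subsingleton (Coh.HH T (Coh.structureModule T) 1))
    (hrat : ∀ t : T, IsClosed ({t} : Set T) → Curv2.IsRationalSing (T.presheaf.stalk t)) :
    Curv2.IsRationalSing B :=
  Sol.isRationalSing_of_sol B fun K _ _ _ => sol hN hτ hT h1 hrat K

end Good

end K380.JoinRat
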