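import Mathlib.RingTheory.Trace.Basic
import Mathlib.RingTheory.Polynomial.GaussLemma
import Mathlib.FieldTheory.IntermediateField.Adjoin.Basic
import Mathlib.RingTheory.Localization.Integral

/-!
# Traces and integral elements

* `dvd_of_integral`: if `π θ = a - ρ` with `θ` integral over the normal domain `A`, then `π` divides
  `d a - t`, where `d` and `-t` are the degree and the next coefficient of the minimal polynomial of `ρ`.
* `exists_lift_minpoly`: the minimal polynomial has coefficients in a ring `R` integrally closed in `L`.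
* `exists_clear`, `exists_patch`: patching over the maximal ideals of an integral extension.
* `exists_dvd`: the combination.
-/

set_option autoImplicit false

open Polynomial

namespace K380.TrInt

theorem dvd_of_integral {A L L' : Type*} [CommRing A] [IsIntegrallyClosed A] [Field L] [Algebra A L]
    [IsFractionRing A L] [Field L'] [Algebra L L'] [Algebra A L'] [IsScalarTower A L L'] {ρ θ : L'}
    (hρ : IsIntegral A ρ) (hθ : IsIntegral A θ) (a π : A) (hπ : algebraMap A L π ≠ 0)
    (h : algebraMap A L' π * θ = algebraMap A L' a - ρ) (t : A)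
    (ht : algebraMap A L t = -(minpoly L ρ).nextCoeff) :
    π ∣ (minpoly L ρ).natDegree • a - t := by
  have hρL : IsIntegral L ρ := hρ.tower_top
  let E := IntermediateField.adjoin L {ρ}
  have hfin : FiniteDimensional L E := IntermediateField.adjoin.finiteDimensional hρL
  let ρE : E := IntermediateField.AdjoinSimple.gen L ρ
  have hπ' : algebraMap L L' (algebraMap A L π) ≠ 0 := (_root_.map_ne_zero _).2 hπ
  have hθE : θ ∈ E := by
    have h1 : θ = (algebraMap L L' (algebraMap A L π))⁻¹ * (algebraMap L L' (algebraMap A L a) - ρ) := by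
      rw [eq_inv_mul_iff_mul_eq₀ hπ', ← IsScalarTower.algebraMap_apply, ← IsScalarTower.algebraMap_apply]
      exact h
    rw [h1]
    exact mul_mem (inv_mem (E.algebraMap_mem _))
      (sub_mem (E.algebraMap_mem _) (IntermediateField.mem_adjoin_simple_self L ρ))
  let θE : E := ⟨θ, hθE⟩
  have hsc : IsScalarTower A E L' := IsScalarTower.of_algebraMap_eq (fun _ => rfl)
  have hθE' : IsIntegral A θE := by
    have h1 : IsIntegral A (algebraMap E L' θE) := hθ
    exact (isIntegral_algebraMap_iff (algebraMap E L').injective).1 h1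
  have h2 := Algebra.isIntegral_trace (L := L) hθE'
  obtain ⟨c, hc⟩ := IsIntegrallyClosed.isIntegral_iff.1 h2
  have h3 : algebraMap L E (algebraMap A L π) * θE = algebraMap L E (algebraMap A L a) - ρE := by
    apply Subtype.ext
    change algebraMap L L' (algebraMap A L π) * θ = algebraMap L L' (algebraMap A L a) - ρ
    rw [← IsScalarTower.algebraMap_apply, ← IsScalarTower.algebraMap_apply]
    exact h
  have h4 := congrArg (Algebra.trace L E) h3
  rw [← Algebra.smul_def, map_smul, ← hc, map_sub, Algebra.trace_algebraMap,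
    IntermediateField.adjoin.finrank hρL] at h4
  have h5 : Algebra.trace L E ρE = -(minpoly L ρ).nextCoeff := by
    have h6 := PowerBasis.trace_gen_eq_nextCoeff_minpoly (IntermediateField.adjoin.powerBasis hρL)
    rw [IntermediateField.adjoin.powerBasis_gen, IntermediateField.minpoly_gen] at h6
    exact h6
  rw [h5, ← ht] at h4
  refine ⟨c, ?_⟩
  apply IsFractionRing.injective A L
  rw [map_sub, map_nsmul, map_mul, ← h4]
  rfl

theorem exists_lift_minpoly {R L L' : Type*} [CommRing R] [Field L] [Field L'] [Algebra R L] [Algebra L L']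
    [Algebra R L'] [IsScalarTower R L L'] (hcl : ∀ x : L, IsIntegral R x → x ∈ (algebraMap R L).range)
    {ρ : L'} (hρ : IsIntegral R ρ) : ∃ t : R, algebraMap R L t = -(minpoly L ρ).nextCoeff := by
  obtain ⟨f, hf, hf'⟩ := hρ
  have h1 : minpoly L ρ ∣ f.map (algebraMap R L) := by
    apply minpoly.dvd
    rw [aeval_map_algebraMap]
    exact hf'
  have hint : IsIntegral L ρ := ⟨f.map (algebraMap R L), hf.map _, by
    rw [eval₂_map, ← IsScalarTower.algebraMap_eq]; exact hf'⟩
  have h2 := integralClosure.mem_lifts_of_monic_of_dvd_map L hf (minpoly.monic hint) h1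
  rw [lifts_iff_coeff_lifts] at h2
  have h3 : ∀ n, (minpoly L ρ).coeff n ∈ (algebraMap R L).range := by
    intro n
    obtain ⟨x, hx⟩ := h2 n
    rw [← hx]
    exact hcl _ x.2
  have h4 : (minpoly L ρ).nextCoeff ∈ (algebraMap R L).range := by
    rw [nextCoeff]
    split_ifs
    · exact zero_mem _
    · exact h3 _
  obtain ⟨t, ht⟩ := h4
  exact ⟨-t, by rw [map_neg, ht]⟩

/-- Clearing denominators. -/
theorem exists_clear {A R' V L' : Type*} [CommRing A] [CommRing R'] [CommRing V] [CommRing L'] [Algebra R' V]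
    (S : Submonoid R') [IsLocalization S V] (α : A →+* L') (β : V →+* L')
    (hint : ∀ r : R', α.IsIntegralElem (β (algebraMap R' V r)))
    {B : Type*} [CommRing B] (γ : B →+* L') (hγ : ∀ b, γ b ∈ Subring.closure (Set.range α ∪ Set.range β))
    {θ : L'} (hθ : γ.IsIntegralElem θ) :
    ∃ s ∈ S, α.IsIntegralElem (β (algebraMap R' V s) * θ) := by
  have key : ∀ c ∈ Subring.closure (Set.range α ∪ Set.range β),
      ∃ s ∈ S, α.IsIntegralElem (β (algebraMap R' V s) * c) := by
    intro c hc
    induction hc using Subring.closure_induction with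
    | mem c hc =>
      rcases hc with ⟨a, rfl⟩ | ⟨v, rfl⟩
      · exact ⟨1, S.one_mem, by rw [map_one, map_one, one_mul]; exact α.isIntegralElem_map⟩
      · obtain ⟨⟨r, s⟩, hrs⟩ := IsLocalization.surj S v
        refine ⟨s, s.2, ?_⟩
        rw [← map_mul, mul_comm]
        simp only at hrs
        rw [hrs]
        exact hint r
    | zero => exact ⟨1, S.one_mem, by rw [mul_zero]; exact α.isIntegralElem_zero⟩
    | one => exact ⟨1, S.one_mem, by rw [map_one, map_one, one_mul]; exact α.isIntegralElem_one⟩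
    | add x y _ _ hx hy =>
      obtain ⟨s, hs, h1⟩ := hx
      obtain ⟨t, ht, h2⟩ := hy
      refine ⟨s * t, S.mul_mem hs ht, ?_⟩
      have : β (algebraMap R' V (s * t)) * (x + y) = β (algebraMap R' V t) * (β (algebraMap R' V s) * x) +
          β (algebraMap R' V s) * (β (algebraMap R' V t) * y) := by
        rw [map_mul, map_mul]; ring
      rw [this]
      exact ((hint t).mul _ h1).add _ ((hint s).mul _ h2)
    | neg x _ hx =>
      obtain ⟨s, hs, h1⟩ := hx
      exact ⟨s, hs, by rw [mul_neg]; exact h1.neg _⟩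
    | mul x y _ _ hx hy =>
      obtain ⟨s, hs, h1⟩ := hx
      obtain ⟨t, ht, h2⟩ := hy
      refine ⟨s * t, S.mul_mem hs ht, ?_⟩
      have : β (algebraMap R' V (s * t)) * (x * y) = (β (algebraMap R' V s) * x) *
          (β (algebraMap R' V t) * y) := by
        rw [map_mul, map_mul]; ring
      rw [this]
      exact h1.mul _ h2
  obtain ⟨P, hP, hP'⟩ := hθ
  choose s hs hs' using fun j : ℕ => key _ (hγ (P.coeff j))
  let σ : R' := ∏ j ∈ Finset.range P.natDegree, s j
  have hσ : σ ∈ S := Submonoid.prod_mem _ (fun j _ => hs j)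
  refine ⟨σ, hσ, ?_⟩
  let _ := α.toAlgebra
  have hintD : ∀ r : R', β (algebraMap R' V r) ∈ integralClosure A L' := fun r => hint r
  let Q : L'[X] := scaleRoots (P.map γ) (β (algebraMap R' V σ))
  have hPm : (P.map γ).Monic := hP.map γ
  by_cases hL : Nontrivial L'
  swap
  · have : Subsingleton L' := not_nontrivial_iff_subsingleton.1 hL
    exact ⟨1, monic_one, Subsingleton.elim _ _⟩
  have hdeg : (P.map γ).natDegree = P.natDegree := hP.natDegree_map γ
  have hQm : Q.Monic := monic_scaleRoots_iff _ |>.2 hPm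
  have hQc : ∀ n, Q.coeff n ∈ Set.range (algebraMap (integralClosure A L') L') := by
    intro n
    have h1 : Q.coeff n ∈ integralClosure A L' := by
      rw [coeff_scaleRoots, hdeg]
      rcases lt_trichotomy n P.natDegree with h | h | h
      · obtain ⟨k, hk⟩ := Nat.exists_eq_add_of_lt h
        have h2 : P.natDegree - n = k + 1 := by omega
        rw [h2, pow_succ, ← mul_assoc, mul_comm, ← mul_assoc]
        have h3 : β (algebraMap R' V σ) * (P.map γ).coeff n ∈ integralClosure A L' := by
          have h4 : σ = (∏ j ∈ (Finset.range P.natDegree).erase n, s j) * s n :=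
            (Finset.prod_erase_mul _ _ (Finset.mem_range.2 h)).symm
          rw [h4, map_mul, map_mul, mul_assoc, coeff_map]
          exact mul_mem (hintD _) (hs' n)
        exact mul_mem h3 (pow_mem (hintD _) _)
      · subst h
        rw [← hdeg, hPm.coeff_natDegree, one_mul]
        exact pow_mem (hintD _) _
      · rw [coeff_eq_zero_of_natDegree_lt (hdeg ▸ h), zero_mul]
        exact zero_mem _
    exact ⟨⟨_, h1⟩, rfl⟩
  obtain ⟨Q', hQ', -, hQ'm⟩ := lifts_and_natDegree_eq_and_monic ((lifts_iff_coeff_lifts _).2 hQc) hQm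
  have h5 : IsIntegral (integralClosure A L') (β (algebraMap R' V σ) * θ) := by
    refine ⟨Q', hQ'm, ?_⟩
    rw [← eval_map, hQ', eval]
    have h6 : eval₂ (RingHom.id L') θ (P.map γ) = 0 := by rw [eval₂_map]; exact hP'
    exact scaleRoots_eval₂_eq_zero (RingHom.id L') h6
  exact isIntegral_trans _ h5

/-- Patching over the maximal ideals. -/
theorem exists_patch {R' L' : Type*} [CommRing R'] [CommRing L'] (δ : R' →+* L') {ι : Type*}
    (A : ι → Type*) [∀ i, CommRing (A i)] (α : ∀ i, A i →+* L')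
    (hint : ∀ i (r : R'), (α i).IsIntegralElem (δ r)) (a : ∀ i, A i) (π : L')
    (H : ∀ m : Ideal R', m.IsMaximal → ∃ s r : R', s ∉ m ∧ ∀ i, ∃ θ : L', (α i).IsIntegralElem θ ∧
      π * θ = δ s * α i (a i) - δ r) :
    ∃ r : R', ∀ i, ∃ θ : L', (α i).IsIntegralElem θ ∧ π * θ = α i (a i) - δ r := by
  let J : Ideal R' :=
    { carrier := {s | ∃ r : R', ∀ i, ∃ θ : L', (α i).IsIntegralElem θ ∧ π * θ = δ s * α i (a i) - δ r}
      add_mem' := by
        rintro s t ⟨r, hr⟩ ⟨r', hr'⟩
        refine ⟨r + r', fun i => ?_⟩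
        obtain ⟨θ, h1, h2⟩ := hr i
        obtain ⟨θ', h3, h4⟩ := hr' i
        exact ⟨θ + θ', h1.add _ h3, by rw [mul_add, h2, h4, map_add, map_add]; ring⟩
      zero_mem' := ⟨0, fun i => ⟨0, (α i).isIntegralElem_zero, by simp⟩⟩
      smul_mem' := by
        rintro c s ⟨r, hr⟩
        refine ⟨c * r, fun i => ?_⟩
        obtain ⟨θ, h1, h2⟩ := hr i
        refine ⟨δ c * θ, (hint i c).mul _ h1, ?_⟩
        rw [smul_eq_mul, map_mul, map_mul, mul_left_comm, h2]
        ring }
  have hJ : J = ⊤ := by
    by_contra hne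
    obtain ⟨m, hm, hle⟩ := Ideal.exists_le_maximal J hne
    obtain ⟨s, r, hs, h⟩ := H m hm
    exact hs (hle ⟨r, h⟩)
  obtain ⟨r, hr⟩ := (Ideal.eq_top_iff_one J).1 hJ
  refine ⟨r, fun i => ?_⟩
  obtain ⟨θ, h1, h2⟩ := hr i
  exact ⟨θ, h1, by rw [h2, map_one, one_mul]⟩

/-- The combination: elements `a i` which become constant modulo `π` after an integral extension `R'` of `R`
(up to integrality) are constant modulo `π` when the positive integers are units in `R`. -/
theorem exists_dvd {R R' L L' : Type*} [CommRing R] [CommRing R'] [Field L] [Field L'] [Algebra R L]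
    [Algebra L L'] [Algebra R L'] [IsScalarTower R L L']
    (hcl : ∀ x : L, IsIntegral R x → x ∈ (algebraMap R L).range)
    (hn : ∀ n : ℕ, n ≠ 0 → IsUnit (n : R)) (δ : R' →+* L') (hδ : ∀ r : R', IsIntegral R (δ r))
    {ι : Type*} (A : ι → Type*) [∀ i, CommRing (A i)] [∀ i, IsIntegrallyClosed (A i)]
    (α : ∀ i, A i →+* L) (hfrac : ∀ i, @IsFractionRing (A i) _ L _ (α i).toAlgebra)
    (ρ : ∀ i, R →+* A i) (hρ : ∀ i r, α i (ρ i r) = algebraMap R L r) (a : ∀ i, A i) (π : R)
    (hπ : algebraMap R L π ≠ 0)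
    (H : ∀ m : Ideal R', m.IsMaximal → ∃ s r : R', s ∉ m ∧ ∀ i, ∃ θ : L',
      ((algebraMap L L').comp (α i)).IsIntegralElem θ ∧
      algebraMap R L' π * θ = δ s * algebraMap L L' (α i (a i)) - δ r) :
    ∃ r : R, ∀ i, ρ i π ∣ a i - ρ i r := by
  have hintA : ∀ i (y : L'), IsIntegral R y → ((algebraMap L L').comp (α i)).IsIntegralElem y := by
    intro i y hy
    obtain ⟨P, hP, hP'⟩ := hy
    refine ⟨P.map (ρ i), hP.map _, ?_⟩
    rw [eval₂_map]
    have h1 : ((algebraMap L L').comp (α i)).comp (ρ i) = algebraMap R L' := by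
      ext r
      simp only [RingHom.comp_apply, hρ]
      exact (IsScalarTower.algebraMap_apply R L L' r).symm
    rw [h1]
    exact hP'
  obtain ⟨r', hr'⟩ := exists_patch δ A (fun i => (algebraMap L L').comp (α i))
    (fun i r => hintA i _ (hδ r)) a (algebraMap R L' π) H
  obtain ⟨t, ht⟩ := exists_lift_minpoly hcl (hδ r')
  have hintL : IsIntegral L (δ r') := by
    obtain ⟨P, hP, hP'⟩ := hδ r'
    exact ⟨P.map (algebraMap R L), hP.map _, by
      rw [eval₂_map, ← IsScalarTower.algebraMap_eq]; exact hP'⟩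
  have hd : (minpoly L (δ r')).natDegree ≠ 0 := (minpoly.natDegree_pos hintL).ne'
  obtain ⟨u, hu⟩ := hn _ hd
  refine ⟨↑(u⁻¹) * t, fun i => ?_⟩
  let _ := (α i).toAlgebra
  let _ := ((algebraMap L L').comp (α i)).toAlgebra
  have hsc : IsScalarTower (A i) L L' := IsScalarTower.of_algebraMap_eq (fun _ => rfl)
  have hfr : IsFractionRing (A i) L := hfrac i
  obtain ⟨θ, h1, h2⟩ := hr' i
  have h3 : ∀ r, algebraMap (A i) L (ρ i r) = algebraMap R L r := hρ i
  have h4 : ∀ r, algebraMap (A i) L' (ρ i r) = algebraMap R L' r := fun r => by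
    rw [IsScalarTower.algebraMap_apply (A i) L L', h3, ← IsScalarTower.algebraMap_apply]
  have h5 := dvd_of_integral (A := A i) (L := L) (ρ := δ r') (θ := θ) (hintA i _ (hδ r')) h1 (a i) (ρ i π)
    (by rw [h3]; exact hπ) (by rw [h4]; exact h2) (ρ i t) (by rw [h3]; exact ht)
  obtain ⟨c, hc⟩ := h5
  refine ⟨ρ i ↑(u⁻¹) * c, ?_⟩
  have h6 : ρ i ↑(u⁻¹) * ((minpoly L (δ r')).natDegree • a i) = a i := by
    rw [nsmul_eq_mul, ← map_natCast (ρ i), ← hu, ← mul_assoc, ← map_mul, Units.inv_mul, map_one, one_mul]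
  calc a i - ρ i (↑(u⁻¹) * t) = ρ i ↑(u⁻¹) * ((minpoly L (δ r')).natDegree • a i - ρ i t) := by
        rw [mul_sub, h6, map_mul]
    _ = ρ i π * (ρ i ↑(u⁻¹) * c) := by rw [hc]; ring

end K380.TrInt
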