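import Groth.Agent.Models.K380.FunFld
import Groth.Agent.Models.K380.TrInt

/-!
# Functions modulo `π` after a ramified base change: one localization
-/

set_option autoImplicit false
universe u

open CategoryTheory CategoryTheory.Limits AlgebraicGeometry Opposite TopologicalSpace

namespace K380.LocalConst

open Groth.Agent Groth.Agent.Dix.NormalSec Groth.Agent.Fdesc.LocGen Groth.Agent.Models.H67.NormFam
open Groth.Agent.Models.H67.NormRoot Groth.Agent.Models.H67.FibreField Groth.Agent.Models.H67
open K380.Slope K380.FamPull K380.NormBC K380.FunFld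

lemma map_genericPoint {Z X : Scheme.{u}} [IsIntegral Z] [IsIntegral X] (ψ : Z ⟶ X) [IsDominant ψ] :
    ψ (genericPoint Z) = genericPoint X := by
  have h1 := (genericPoint_spec Z).image ψ.continuous
  rw [Set.image_univ, ψ.denseRange.closure_range] at h1
  exact h1.eq (genericPoint_spec X)

variable {R K' : Type u} [CommRing R] [IsDomain R] [IsDiscreteValuationRing R] [Field K']
  [Algebra (FractionRing R) K']
  {C X C' : Scheme.{u}} {f : C ⟶ Spec (CommRingCat.of (FractionRing R))} {p : X ⟶ Spec (CommRingCat.of R)}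
  {g : C ⟶ X} {c : C' ⟶ C} {f₁ : C' ⟶ Spec (CommRingCat.of K')}

/-- The constants `K'` in the function field of `C'`. -/
noncomputable def cst [IsIntegral C'] (f₁ : C' ⟶ Spec (CommRingCat.of K')) : K' →+* C'.functionField :=
  (germ ⊤ (genericPoint C') trivial).comp (gb f₁)

theorem exists_local [Smooth f] [IsProper f] [GeometricallyConnected f] [IsProper p]
    (hg : IsPullback g f p (Spec.map (CommRingCat.ofHom (algebraMap R (FractionRing R)))))
    (hc : IsPullback c f₁ f (Spec.map (CommRingCat.ofHom (algebraMap (FractionRing R) K'))))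
    (s : Spec (CommRingCat.of K') ⟶ C')
    (hs : s ≫ f₁ = 𝟙 _) [IsIntegral C']
    {R' V : Type u} [CommRing R'] [CommRing V] [IsDomain V] [IsDiscreteValuationRing V] [Algebra R' V]
    (S : Submonoid R') [IsLocalization S V] [Algebra V K'] [IsFractionRing V K'] (φ : R →+* V)
    (hφ : ∀ r, algebraMap V K' (φ r) = algebraMap (FractionRing R) K' (algebraMap R _ r))
    {ι : Type*} [Finite ι] (U : ι → X.affineOpens) (hU : ∀ i, (c ≫ g) (genericPoint C') ∈ (U i).1)
    (hint : ∀ i (r : R'), (val (c ≫ g) (U i).1 (hU i)).IsIntegralElem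
      (cst f₁ (algebraMap V K' (algebraMap R' V r))))
    {t : R} (ht : t ≠ 0) (F : Fam (gb p t)) :
    ∃ a b : R', a ∈ S ∧ ∀ i, ∃ θ : C'.functionField, (val (c ≫ g) (U i).1 (hU i)).IsIntegralElem θ ∧
      val (c ≫ g) ⊤ trivial (gb p t) * θ = cst f₁ (algebraMap V K' (algebraMap R' V a)) *
        val (c ≫ g) (U i).1 (hU i) (F.a (U i)) - cst f₁ (algebraMap V K' (algebraMap R' V b)) := by
  classical
  -- the fraction field of `V`
  let e : FractionRing V ≃+* K' := (FractionRing.algEquiv V K').toRingEquiv
  have he : ∀ v : V, e (algebraMap V (FractionRing V) v) = algebraMap V K' v :=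
    fun v => (FractionRing.algEquiv V K').commutes v
  let ε : Spec (CommRingCat.of K') ⟶ Spec (CommRingCat.of (FractionRing V)) :=
    Spec.map (CommRingCat.ofHom e.toRingHom)
  have hεiso : IsIso ε := by
    have : IsIso (CommRingCat.ofHom e.toRingHom) := inferInstanceAs (IsIso e.toCommRingCatIso.hom)
    infer_instance
  have hεV : ε ≫ Spec.map (CommRingCat.ofHom (algebraMap V (FractionRing V))) =
      Spec.map (CommRingCat.ofHom (algebraMap V K')) := by
    rw [← Spec.map_comp]
    congr 1
    ext v
    exact he v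
  let f' : C' ⟶ Spec (CommRingCat.of (FractionRing V)) := f₁ ≫ ε
  have hsm : Smooth f₁ := MorphismProperty.of_isPullback (P := @Smooth) hc inferInstance
  have hpr : IsProper f₁ := MorphismProperty.of_isPullback (P := @IsProper) hc inferInstance
  have hgc : GeometricallyConnected f₁ :=
    MorphismProperty.of_isPullback (P := @GeometricallyConnected) hc inferInstance
  have hsm' : Smooth f' := inferInstance
  have hpr' : IsProper f' := inferInstance
  have hc' : IsPullback c f' f (inv ε ≫ Spec.map (CommRingCat.ofHom (algebraMap (FractionRing R) K'))) :=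
    hc.of_iso (Iso.refl _) (Iso.refl _) (asIso ε) (Iso.refl _) (by simp) (by simp [f']) (by simp)
      (by simp)
  have hgc' : GeometricallyConnected f' :=
    MorphismProperty.of_isPullback (P := @GeometricallyConnected) hc' inferInstance
  -- the base change of `X`
  let b : pullback p (Spec.map (CommRingCat.ofHom φ)) ⟶ X := pullback.fst _ _
  let q : pullback p (Spec.map (CommRingCat.ofHom φ)) ⟶ Spec (CommRingCat.of V) := pullback.snd _ _
  have H : IsPullback b q p (Spec.map (CommRingCat.ofHom φ)) := IsPullback.of_hasPullback _ _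
  have hbase : Spec.map (CommRingCat.ofHom (algebraMap (FractionRing R) K')) ≫
      Spec.map (CommRingCat.ofHom (algebraMap R (FractionRing R))) =
      ε ≫ Spec.map (CommRingCat.ofHom (algebraMap V (FractionRing V))) ≫ Spec.map (CommRingCat.ofHom φ) := by
    rw [← Category.assoc ε, hεV, ← Spec.map_comp, ← Spec.map_comp]
    congr 1
    ext r
    exact (hφ r).symm
  have hbig : IsPullback (c ≫ g) f₁ p (ε ≫ Spec.map (CommRingCat.ofHom (algebraMap V (FractionRing V))) ≫
      Spec.map (CommRingCat.ofHom φ)) := by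
    rw [← hbase]
    exact hc.paste_horiz hg
  have hbig' : IsPullback (c ≫ g) f' p (Spec.map (CommRingCat.ofHom (algebraMap V (FractionRing V))) ≫
      Spec.map (CommRingCat.ofHom φ)) :=
    hbig.of_iso (Iso.refl _) (Iso.refl _) (asIso ε) (Iso.refl _) (by simp) (by simp [f']) (by simp)
      (by simp)
  let g' : C' ⟶ pullback p (Spec.map (CommRingCat.ofHom φ)) :=
    H.lift (c ≫ g) (f' ≫ Spec.map (CommRingCat.ofHom (algebraMap V (FractionRing V))))
      (hbig'.w.trans (Category.assoc _ _ _).symm)
  have hg'b : g' ≫ b = c ≫ g := H.lift_fst _ _ _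
  have hg'q : g' ≫ q = f' ≫ Spec.map (CommRingCat.ofHom (algebraMap V (FractionRing V))) := H.lift_snd _ _ _
  have hg' : IsPullback g' f' q (Spec.map (CommRingCat.ofHom (algebraMap V (FractionRing V)))) := by
    refine IsPullback.of_right ?_ hg'q H
    rw [hg'b]
    exact hbig'
  have hφt : φ t ≠ 0 := by
    intro h0
    have h1 := hφ t
    rw [h0, map_zero] at h1
    exact ht ((IsFractionRing.injective R (FractionRing R))
      (((algebraMap (FractionRing R) K').injective (h1.symm.trans (map_zero _).symm)).trans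
        (map_zero _).symm))
  obtain ⟨r, hr⟩ := exists_const_normalization (f' := f') H hg' (inv ε ≫ s) (by
    change (inv ε ≫ s) ≫ f₁ ≫ ε = _
    rw [Category.assoc, reassoc_of% hs, IsIso.inv_hom_id]) hφt F
  -- the constants
  have hgen' : ∀ i, (g' ≫ b) (genericPoint C') ∈ (U i).1 := fun i => by rw [hg'b]; exact hU i
  have hvalb : ∀ i (a : Γ(X, (U i).1)), val (g' ≫ b) (U i).1 (hgen' i) a = val (c ≫ g) (U i).1 (hU i) a :=
    fun i a => val_congr hg'b _ _ _ a
  have hcst : ∀ v : V, val g' ⊤ trivial (gb q v) = cst f₁ (algebraMap V K' v) := by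
    intro v
    have h1 : ap g' ⊤ (gb q v) = gb f₁ (algebraMap V K' v) :=
      ap_gb (φ := algebraMap V K') (by rw [hg'q, ← hεV]; exact Category.assoc _ _ _) v
    change germ _ (genericPoint C') _ (ap g' ⊤ (gb q v)) = _
    rw [h1]
    rfl
  -- integral elements
  have hcl : ∀ i, ∃ a ∈ S, ∃ θ : C'.functionField,
      (val (c ≫ g) (U i).1 (hU i)).IsIntegralElem (cst f₁ (algebraMap V K' (algebraMap R' V a)) * θ) ∧
      val (c ≫ g) ⊤ trivial (gb p t) * θ = val (c ≫ g) (U i).1 (hU i) (F.a (U i)) -
        cst f₁ (algebraMap V K' r) := by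
    intro i
    obtain ⟨θ, h1, h2⟩ := hr (U i) (hgen' i)
    obtain ⟨a, ha, h3⟩ := TrInt.exists_clear (R' := R') (V := V) S (val (c ≫ g) (U i).1 (hU i))
      ((cst f₁).comp (algebraMap V K')) (hint i) (val g' (b ⁻¹ᵁ (U i).1) (hgen' i)) (by
        intro y
        have h4 := mem_closure H (U i).2 y
        have h5 : val g' (b ⁻¹ᵁ (U i).1) (hgen' i) y ∈ (Subring.closure _).map
          (val g' (b ⁻¹ᵁ (U i).1) (hgen' i)) := Subring.mem_map.2 ⟨y, h4, rfl⟩
        rw [RingHom.map_closure] at h5
        refine Subring.closure_mono ?_ h5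
        rintro _ ⟨_, ⟨a, rfl⟩ | ⟨v, rfl⟩, rfl⟩
        · left
          refine ⟨a, ?_⟩
          rw [← hvalb]
          exact val_comp g' b _ (hgen' i) a
        · right
          refine ⟨v, ?_⟩
          change cst f₁ (algebraMap V K' v) = _
          rw [← hcst]
          exact (val_ores g' le_top (hgen' i) (gb q v)).symm) h1
    refine ⟨a, ha, θ, h3, ?_⟩
    rw [hvalb, hvalb, hcst, val_ores] at h2
    exact h2
  choose a ha θ hθ hθ' using hcl
  have := Fintype.ofFinite ι
  obtain ⟨⟨r₁, s₁⟩, hrs⟩ := IsLocalization.surj S r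
  simp only at hrs
  refine ⟨s₁ * ∏ i, a i, r₁ * ∏ i, a i, S.mul_mem s₁.2 (Submonoid.prod_mem _ fun i _ => ha i), fun i => ?_⟩
  refine ⟨cst f₁ (algebraMap V K' (algebraMap R' V (s₁ * ∏ i, a i))) * θ i, ?_, ?_⟩
  · rw [← Finset.prod_erase_mul Finset.univ a (Finset.mem_univ i), ← mul_assoc, map_mul, map_mul, map_mul,
      mul_assoc]
    exact (hint i _).mul _ (hθ i)
  · rw [mul_left_comm, hθ', mul_sub]
    congr 1
    rw [← map_mul, ← map_mul]
    congr 2
    rw [map_mul, map_mul, ← hrs]
    ring

end K380.LocalConst
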