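import Groth.Agent.Models.K380.EssEt
import Groth.Agent.Models.K380.JoinRat
import Groth.Agent.Models.K380.FlatCofinite
import Groth.Agent.Resolve.K376.RatIso
import Groth.Agent.Resolve.K377.TraceDeg
import Groth.Agent.Variety.K434.DimQF
import Groth.Agent.Resolve.K375.NagSch
import Groth.Agent.Models.RMBlow
import Groth.Agent.S1648

/-!
# Rational singularities under essentially étale extensions
-/

set_option autoImplicit false

universe u

open CategoryTheory CategoryTheory.Limits AlgebraicGeometry IsLocalRing TopologicalSpace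

namespace K380.RatEt

open Groth.Agent Groth.Agent.CurvesC K380.EssEt

theorem isRationalSing_of_dim_ne_two (A : Type u) [CommRing A] [IsDomain A] [IsNoetherianRing A]
    [IsIntegrallyClosed A] (hN : CAlg.IsNagata A) (hdim : ringKrullDim A ≤ 2) (hne : ringKrullDim A ≠ 2) :
    Curv2.IsRationalSing A := by
  refine Sol.isRationalSing_of_sol A fun K _ _ _ =>
    K377.TraceDeg.sol_of_localization A hN hdim K fun n hn hd => ?_
  refine absurd (le_antisymm hdim ?_) hne
  rw [← hd, IsLocalization.AtPrime.ringKrullDim_eq_height n (Localization.AtPrime n)]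
  exact Ideal.height_le_ringKrullDim_of_ne_top hn.ne_top

theorem isRationalSing_of_regular (A : Type u) [CommRing A] [IsRegularLocalRing A] (hN : CAlg.IsNagata A)
    (hdim : ringKrullDim A ≤ 2) : Curv2.IsRationalSing A := by
  by_cases h : ringKrullDim A = 2
  · exact S1648.result A hN h
  · have h1 := Groth.Agent.CurvesC.RegNormal.isDomain A
    have h2 := Groth.Agent.CurvesC.RegNormal.isIntegrallyClosed A
    exact isRationalSing_of_dim_ne_two A hN hdim h

/-- The local rings of a modification have dimension at most that of the base. -/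
theorem ringKrullDim_stalk_le {T Y : Scheme.{u}} [IsIntegral Y] [IsLocallyNoetherian Y] (τ : T ⟶ Y)
    (h : Modif.IsModif τ) (t : T) : ringKrullDim (T.presheaf.stalk t) ≤ ringKrullDim (Y.presheaf.stalk (τ t)) := by
  have h1 := h.proper
  have h2 := h.integral
  obtain ⟨U, hU, hi⟩ := h.exists_isIso
  refine K434.DimQF.ringKrullDim_stalk_le τ (Bir.gen τ U hU hi) ?_ t
  have h3 := Bir.bir τ U hU hi
  exact RingHom.QuasiFinite.of_finite (RingHom.Finite.of_surjective _
    (ConcreteCategory.bijective_of_isIso (τ.stalkMap (genericPoint T))).2)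

theorem isNagata_stalk {X : Scheme.{u}} (h : K375.NagSch.IsNag X) (x : X) : CAlg.IsNagata (X.presheaf.stalk x) := by
  obtain ⟨U, hU, hxU, -⟩ := exists_isAffineOpen_mem_and_subset (X := X) (x := x) (U := ⊤) trivial
  let alg1 : Algebra Γ(X, U) (X.presheaf.stalk x) := (X.presheaf.germ U x hxU).hom.toAlgebra
  have hloc : IsLocalization.AtPrime (X.presheaf.stalk x) (hU.primeIdealOf ⟨x, hxU⟩).asIdeal :=
    hU.isLocalization_stalk ⟨x, hxU⟩
  exact Groth.Agent.Ega4B.NagBasic.isNagata_localization (h ⟨U, hU⟩)
    (hU.primeIdealOf ⟨x, hxU⟩).asIdeal.primeCompl (X.presheaf.stalk x)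

theorem isFiniteTypeIdeal {X : Scheme.{u}} [IsLocallyNoetherian X] (I : X.IdealSheafData) :
    BlowUp.IsFiniteTypeIdeal I := by
  intro U
  have : IsNoetherianRing Γ(X, U.1) := IsLocallyNoetherian.component_noetherian U
  exact IsNoetherian.noetherian _

/-- **Rational singularities ascend along essentially étale extensions** of resolvable local domains. -/
theorem main (A B : Type u) [CommRing A] [CommRing B] [IsDomain A] [IsDomain B] [IsLocalRing A]
    [IsNoetherianRing A] [IsNoetherianRing B] [IsIntegrallyClosed B] [Algebra A B]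
    [FaithfulSMul A B] (hE : EssEt (Spec.map (CommRingCat.ofHom (algebraMap A B))))
    (hNB : CAlg.IsNagata B) (hA : ¬ IsField A) (hres : Models.RMBlow.Resolvable A) (hdim : ringKrullDim B ≤ 2)
    (hrat : Curv2.IsRationalSing A) : Curv2.IsRationalSing B := by
  obtain ⟨I, ⟨n, hn⟩, Z, b, hb, hZ⟩ := hres
  have hI : I ≠ ⊥ := by
    rintro rfl
    rw [le_bot_iff] at hn
    have h1 : maximalIdeal A ≠ ⊥ := fun h => hA (IsLocalRing.isField_iff_maximalIdeal_eq.mpr h)
    exact pow_ne_zero n h1 hn
  have hZm : Modif.IsModif b := Modif.IsModif.of_isBlowUp (SolOfRat.idealSheaf_ne_bot hI)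
    (isFiniteTypeIdeal _) hb
  have hZp := hZm.proper
  have hZi := hZm.integral
  have hZn : IsLocallyNoetherian Z := LocallyOfFiniteType.isLocallyNoetherian b
  have hnor : ∀ {W : Scheme.{u}}, (∀ w : W, IsRegularLocalRing (W.presheaf.stalk w)) → Pi1.IsNormalScheme W := by
    intro W hW w
    have := hW w
    exact ⟨Groth.Agent.CurvesC.RegNormal.isDomain _, Groth.Agent.CurvesC.RegNormal.isIntegrallyClosed _⟩
  let β : Spec (CommRingCat.of B) ⟶ Spec (CommRingCat.of A) := Spec.map (CommRingCat.ofHom (algebraMap A B))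
  have hβ : Flat β := hE.flat
  have H : IsPullback (pullback.fst b β) (pullback.snd b β) b β := IsPullback.of_hasPullback b β
  have hbl := Groth.Agent.Divis.BlowUpFormal.isBlowUp_of_isPullback hb H
  rw [show (Curv2.idealSheaf A I).comap β = Curv2.idealSheaf B (I.map (algebraMap A B)) from
    Models.RMBlow.comap_SpecMap (algebraMap A B) I] at hbl
  have hIB : I.map (algebraMap A B) ≠ ⊥ := by
    intro h
    rw [Ideal.map_eq_bot_iff_of_injective (FaithfulSMul.algebraMap_injective A B)] at h
    exact hI h
  have hτ : Modif.IsModif (pullback.snd b β) := Modif.IsModif.of_isBlowUp (SolOfRat.idealSheaf_ne_bot hIB)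
    (isFiniteTypeIdeal _) hbl
  have hEt : EssEt (pullback.fst b β) := EssEt.of_isPullback H hE
  have hT : ∀ t : ↥(pullback b β), IsRegularLocalRing ((pullback b β).presheaf.stalk t) := fun t =>
    hEt.regular_stalk t (hZ _)
  have h1 : Subsingleton (Coh.HH Z (Coh.structureModule Z) 1) := hrat Z b hZp hZi (hnor hZ) hZm.exists_isIso
  have hflat : Module.Flat A B := by
    have h2 : (CommRingCat.ofHom (algebraMap A B)).hom.Flat := by
      rw [← Flat.SpecMap_iff]; exact hβ
    exact RingHom.flat_algebraMap_iff.mp h2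
  have h2 : Subsingleton (Coh.HH (pullback b β) (Coh.structureModule (pullback b β)) 1) :=
    R1Zero.subsingleton_of_isPullback (A := A) (B := B) b (pullback.snd b β) (pullback.fst b β) H 1 h1
  have hτp := hτ.proper
  refine JoinRat.isRationalSing_of_modif hNB hτ (hnor hT) h2 fun t _ => ?_
  have h3 := hT t
  refine isRationalSing_of_regular _ (isNagata_stalk (K375.NagSch.isNag_of_locallyOfFiniteType (pullback.snd b β)
    (K375.NagSch.isNag_Spec hNB)) t) ?_
  refine (ringKrullDim_stalk_le (pullback.snd b β) hτ t).trans (le_trans ?_ hdim)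
  refine (FlatCofinite.ringKrullDim_stalk_le _ _).trans ?_
  exact (PrimeSpectrum.topologicalKrullDim_eq_ringKrullDim (R := B)).le
end K380.RatEt
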