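import Groth.Agent.Models.K380.FamPull

/-!
# Cohomological flatness in dimension zero from constant families
-/

set_option autoImplicit false
universe u

open CategoryTheory CategoryTheory.Limits AlgebraicGeometry Opposite TopologicalSpace

namespace K380.SurjConst

open Groth.Agent Groth.Agent.Dix.NormalSec Groth.Agent.Fdesc.LocGen Groth.Agent.Models.H67.NormFam
open Groth.Agent.Models.H67.NormRoot Groth.Agent.Models.H67.FibreField Groth.Agent.Models.H67
open K380.Slope K380.FamPull

variable {R : Type u} [CommRing R] [IsDomain R] [IsDiscreteValuationRing R] {X : Scheme.{u}}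

lemma specialFibreIdeal_eq (p : X ⟶ Spec (CommRingCat.of R)) {ϖ : R} (hϖ : Irreducible ϖ) :
    Models.specialFibreIdeal R (Over.mk p) = princ (gb p ϖ) := by
  apply Scheme.IdealSheafData.ext
  funext U
  exact Models.H36.FibreFact.specialFibreIdeal_ideal (X := Over.mk p) hϖ.maximalIdeal_eq U

/-- If every family of functions compatible modulo a uniformizer is constant (on a cover), then
`H^0(X, O) → H^0(X_s, O)` is surjective. -/
theorem surjective_of_const (p : X ⟶ Spec (CommRingCat.of R)) {ϖ : R} (hϖ : Irreducible ϖ)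
    (h : ∀ F : Fam (gb p ϖ), ∃ (r : R) (S : Set X.affineOpens), (∀ x : X, ∃ U ∈ S, x ∈ U.1) ∧
      ∀ U ∈ S, (ores le_top (gb p ϖ) : Γ(X, U.1)) ∣ F.a U - ores le_top (gb p r)) :
    Function.Surjective (Sheaf.H.map ((SheafOfModules.toSheaf X.ringCatSheaf).map
      (ClSub.toSubscheme (Models.specialFibreIdeal R (Over.mk p)))) 0) := by
  rw [specialFibreIdeal_eq p hϖ]
  intro y
  let I := princ (gb p ϖ)
  let β : Γ(I.subscheme, ⊤) := CurvesC.QuotZero.addQuot I y
  obtain ⟨F, hF⟩ := exists_fam (gb p ϖ) β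
  obtain ⟨r, S, hS, hr⟩ := h F
  have hβ : β = ap I.subschemeι ⊤ (gb p r) := by
    refine ores_ext (V := (⊤ : I.subscheme.Opens)) (fun U : S => I.subschemeι ⁻¹ᵁ U.1.1)
      (fun _ => le_top) ?_ ?_
    · intro z _
      obtain ⟨U, hU, hz⟩ := hS (I.subschemeι z)
      exact Opens.mem_iSup.2 ⟨⟨U, hU⟩, hz⟩
    · rintro ⟨U, hU⟩
      refine (hF U).symm.trans ?_
      have h1 := (ap_princ_eq_zero_iff (gb p ϖ) U _).2 (hr U hU)
      rw [map_sub, sub_eq_zero, ap_ores] at h1
      exact h1
  refine ⟨(CurvesB.HZero.equivAdd (Coh.structureModule X)).symm (gb p r), ?_⟩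
  apply (CurvesC.QuotZero.addQuot I).injective
  change _ = β
  rw [hβ]
  have h2 := CurvesB.HZero.equivAdd_map (ClSub.toSubscheme I)
    ((CurvesB.HZero.equivAdd (Coh.structureModule X)).symm (gb p r))
  refine h2.trans ?_
  exact congrArg (fun z => (ClSub.toSubscheme I).app ⊤ z)
    ((CurvesB.HZero.equivAdd (Coh.structureModule X)).apply_symm_apply (gb p r))

end K380.SurjConst
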